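import Cfsg.Agent.H927.Om7.SixMinus
import Cfsg.Agent.H909.Om7.SpFour
import Cfsg.Agent.S5785

/-!
# S3691, `Ω_7(q)`, box B6-: `dim_six_minus`
-/

set_option autoImplicit false

namespace Cfsg.Agent.H927.Om7

open Module QuadraticMap Cfsg Cfsg.Geo Cfsg.Agent.LieClassical.OrthCore Cfsg.Agent.H884.El Cfsg.Agent.H955

variable {F : Type} [Field F] [Fintype F] {V : Type} [AddCommGroup V] [Module F V] [FiniteDimensional F V] {Q : QuadraticForm F V}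
  {p f : ℕ} {Γ : Subgroup (V ≃ₗ[F] V)}

/-- box B6- -/
theorem dim_six_minus (hQ : Nondeg Q) (h6 : finrank F V = 6) (hpl : ¬ IsPlus Q) (hp : p.Prime) (hp2 : p ≠ 2) (hf : 1 ≤ f)
    (hF : Nat.card F = p ^ f) (h31 : 31 ≤ p ^ f) (hΓ : Γ ≤ O Q) {r a : ℕ} (hr : PP p (f * 4) r) (hb : 9 < r ^ a)
    (hd : r ^ a ∣ Nat.card Γ) :
    ((Nat.card Γ).factorization p ≤ 2 * f ∨ 4 * f ≤ (Nat.card Γ).factorization p) ∧
      ∀ s b, PP p (f * 6) s → 13 < s ^ b → s ^ b ∣ Nat.card Γ → E Q ≤ Γ :=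
  six_minus_of (fun _ _ _ q hK H h1 h2 => Cfsg.Agent.S5785.result q hK H h1 h2) hQ h6 hpl hp hp2 hf hF h31 hΓ
    (fun _ _ _ hF₀ _ hH hd => H909.Om7.core hp hp2 hf hF₀ h31 hH hr hb hd) hr hb hd

end Cfsg.Agent.H927.Om7
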