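import Cfsg.Agent.H927.Om7.SUForm
import Cfsg.Agent.H833.Spr4.Gen
import Cfsg.Agent.H905.SLProper
import Cfsg.Agent.H900.SU4.Base
import Cfsg.Agent.H251.GeoUMain
import Cfsg.Agent.S0280
import Cfsg.Agent.H955.Sp

/-!
# S3691, `Ω_7(q)`, box B6-: subgroups of `SU_4(q)`

`su_core` : `H ≤ SU_4(q)`, `q = p ^ f ≥ 31` odd, `r ^ a > 9` a primitive prime power of order 4 dividing `|H|`: the `p`-part
of `|H|` is at most `p ^ (2 f)` or at least `p ^ (4 f)`; if a primitive prime power `s ^ b > 13` of order 6 divides `|H|`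
too, then `H = SU_4(q)`.
-/

set_option autoImplicit false
set_option linter.unusedSectionVars false

namespace Cfsg.Agent.H927.Om7

open Cfsg Cfsg.Geo Module Cfsg.Agent.H951 Cfsg.Agent.H251 Cfsg.Agent.H251.GeoCard Cfsg.Agent.H884.El Cfsg.Agent.H918
open scoped Matrix MatrixGroups

/-- the theorem on `Sp_4(q)` (`H909.Om7.core`) -/
def SpCore (p f r a : ℕ) : Prop :=
  ∀ (F : Type) [Field F] [Fintype F], Nat.card F = p ^ f → ∀ H : Subgroup (GL (Fin 2 ⊕ Fin 2) F), H ≤ spGL 2 F →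
    r ^ a ∣ Nat.card H → (Nat.card H).factorization p ≤ 2 * f ∨ spGL 2 F ≤ H

/-- a prime power dividing `|Aut A_7|` -/
theorem le_of_dvd_5040 {r a : ℕ} (hr : r.Prime) (h5 : 5 ≤ r) (h : r ^ a ∣ 5040) : r ^ a ≤ 7 := by
  have h1 : Nat.Coprime (r ^ a) 144 := by
    apply Nat.Coprime.pow_left
    rw [hr.coprime_iff_not_dvd]
    intro hd
    have h2 : r ∣ 2 ^ 4 * 3 ^ 2 := by norm_num; exact hd
    rcases hr.dvd_mul.1 h2 with h3 | h3
    · have := Nat.le_of_dvd (by norm_num) (hr.dvd_of_dvd_pow h3); omega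
    · have := Nat.le_of_dvd (by norm_num) (hr.dvd_of_dvd_pow h3); omega
  have h2 : r ^ a ∣ 144 * 35 := by norm_num; exact h
  have h3 := h1.dvd_of_dvd_mul_left h2
  rcases Nat.eq_zero_or_pos a with rfl | ha
  · norm_num
  · have h4 : r ∣ 5 * 7 := by norm_num; exact (dvd_pow_self r ha.ne').trans h3
    have ha1 : a ≤ 1 := by
      by_contra hcon
      have h5' : r ^ 2 ∣ 35 := (pow_dvd_pow r (by omega : 2 ≤ a)).trans h3
      have h6 := Nat.le_of_dvd (by norm_num) h5'
      have h7 : r = 5 := by nlinarith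
      rw [h7] at h5'
      norm_num at h5'
    have ha2 : a = 1 := by omega
    rw [ha2, pow_one]
    rcases hr.dvd_mul.1 h4 with h8 | h8
    · have := Nat.le_of_dvd (by norm_num) h8; omega
    · exact Nat.le_of_dvd (by norm_num) h8

theorem le_of_dvd_51840 {r a : ℕ} (hr : r.Prime) (h5 : 5 ≤ r) (h : r ^ a ∣ 51840) : r ^ a ≤ 7 := by
  have h1 : Nat.Coprime (r ^ a) 10368 := by
    apply Nat.Coprime.pow_left
    rw [hr.coprime_iff_not_dvd]
    intro hd
    have h2 : r ∣ 2 ^ 7 * 3 ^ 4 := by norm_num; exact hd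
    rcases hr.dvd_mul.1 h2 with h3 | h3
    · have := Nat.le_of_dvd (by norm_num) (hr.dvd_of_dvd_pow h3); omega
    · have := Nat.le_of_dvd (by norm_num) (hr.dvd_of_dvd_pow h3); omega
  have h2 : r ^ a ∣ 10368 * 5 := by norm_num; exact h
  have := Nat.le_of_dvd (by norm_num) (h1.dvd_of_dvd_mul_left h2)
  omega

section

variable {F : Type} [Field F] [Fintype F] {q p f r a : ℕ} {H M : Subgroup (GL (Fin 4) F)}

/-- a Sylow subgroup for a prime not dividing `|F| - 1` has no scalars -/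
theorem syl_no_scalar {s : ℕ} (hs : s.Prime) (hs1 : ¬ s ∣ Nat.card F - 1) {P : Subgroup (GL (Fin 4) F)}
    (hP : IsPGroup s P) (b : P) (hb : P.subtype b ∈ scalars (Fin 4) F) : b = 1 := by
  have h1 : orderOf b ∣ Nat.card F - 1 := by
    rw [← Subgroup.orderOf_coe]
    have hb' : (b : GL (Fin 4) F) ∈ scalars (Fin 4) F := hb
    have h2 := orderOf_dvd_natCard (⟨(b : GL (Fin 4) F), hb'⟩ : scalars (Fin 4) F)
    rw [Subgroup.orderOf_mk] at h2
    exact h2.trans card_scalars_dvd
  obtain ⟨k, hk⟩ := hP b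
  have h2 : orderOf b ∣ s ^ k := orderOf_dvd_of_pow_eq_one hk
  have hco : Nat.Coprime (s ^ k) (Nat.card F - 1) := Nat.Coprime.pow_left _ ((hs.coprime_iff_not_dvd).2 hs1)
  have h3 := Nat.dvd_gcd h2 h1
  rw [Nat.Coprime.gcd_eq_one hco, Nat.dvd_one, orderOf_eq_one_iff] at h3
  exact h3

theorem r_not_dvd (hF : Fintype.card F = q ^ 2) (hf : 1 ≤ f) (hq : q = p ^ f) (hr : PP p (f * 4) r) :
    ¬ r ∣ Nat.card F - 1 := by
  intro h
  have h1 : Div r (q ^ 2) 1 := div_one le_rfl (by rwa [← GeoU.nat_card_eq hF])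
  have h2 := GeoU.ord_le_of_div (Nat.one_le_pow _ _ (LieClassical.HermBasic.q_pos hF)) h1
  rw [GeoU.ord_sq_even (ord_four hf hq hr) (by decide)] at h2
  omega

theorem five_le (hf : 1 ≤ f) (hr : PP p (f * 4) r) : 5 ≤ r := by
  have := hr.lt (by omega)
  omega

/-- the residual class is impossible -/
theorem no_res (hF : Fintype.card F = q ^ 2) (hf : 1 ≤ f) (hq : q = p ^ f) (h31 : 31 ≤ q) (hR : H900.SU4.Res F q)
    (hr : PP p (f * 4) r) (hb : 9 < r ^ a) (hM : IsMaximalIn (SUg 4 F q) M) (hS : InUnitaryResidualClass M)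
    (hd : r ^ a ∣ Nat.card M) : False := by
  have hfin : Finite (GL (Fin 4) F) := inferInstance
  obtain ⟨P, hPM, hPc, hPp⟩ := exists_syl M hr.prime
  have h1 : r ^ a ∣ Nat.card P := by
    rw [hPc]
    exact pow_dvd_pow r ((Nat.Prime.pow_dvd_iff_le_factorization hr.prime Nat.card_pos.ne').1 hd)
  obtain ⟨-, h2 | ⟨h2, -⟩⟩ := hR.card_dvd hM hS (by omega) P.subtype (fun b => hPM b.2)
    (fun b hb => syl_no_scalar hr.prime (r_not_dvd hF hf hq hr) hPp b hb)
  · have := le_of_dvd_5040 hr.prime (five_le hf hr) (h1.trans h2)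
    omega
  · have := le_of_dvd_51840 hr.prime (five_le hf hr) (h1.trans h2)
    omega

/-- the `p`-part of `|SU_4(q)|` -/
theorem fac_su (hF : Fintype.card F = q ^ 2) (hp : p.Prime) (hf : 1 ≤ f) (hq : q = p ^ f) :
    6 * f ≤ (Nat.card (SUg 4 F q)).factorization p := by
  have hfin : Finite (GL (Fin 4) F) := inferInstance
  have h1 := S0280.result hF 4 (by norm_num)
  have hpq : p ∣ q := by rw [hq]; exact dvd_pow_self _ (by omega)
  have hcop : Nat.Coprime p (q + 1) := by
    rw [hp.coprime_iff_not_dvd]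
    intro h
    exact hp.one_lt.ne' (Nat.dvd_one.1 ((Nat.dvd_add_right hpq).1 h))
  have hcop2 : Nat.Coprime p (Nat.gcd 4 (q + 1)) := Nat.Coprime.coprime_dvd_right (Nat.gcd_dvd_right _ _) hcop
  have h2 : p ^ (6 * f) ∣ Nat.gcd 4 (q + 1) * ((q + 1) * Nat.card (PSU 4 F q)) := by
    rw [h1]
    refine Dvd.dvd.mul_right ?_ _
    rw [hq, ← pow_mul]
    exact pow_dvd_pow p (by norm_num; omega)
  have h3 := (Nat.Coprime.pow_left _ hcop).dvd_of_dvd_mul_left ((Nat.Coprime.pow_left _ hcop2).dvd_of_dvd_mul_left h2)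
  have h4 : Nat.card (PSU 4 F q) ∣ Nat.card (SUg 4 F q) := by
    have h5 := GeoU.card_dvd_pre (⊤ : Subgroup (PSU 4 F q))
    rw [Nat.card_congr (Subgroup.topEquiv (G := PSU 4 F q)).toEquiv] at h5
    exact h5.trans (Subgroup.card_dvd_of_le (GeoU.pre_le _))
  exact (Nat.Prime.pow_dvd_iff_le_factorization hp Nat.card_pos.ne').1 (h3.trans h4)

/-- proper subgroups of `SU_4(q)` -/
theorem su_first (hF : Fintype.card F = q ^ 2) (hp : p.Prime) (hp2 : p ≠ 2) (hf : 1 ≤ f) (hq : q = p ^ f) (h31 : 31 ≤ q)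
    (hR : H900.SU4.Res F q) (hSp : SpCore p f r a) (hHM : H ≤ M) (hM : IsMaximalIn (SUg 4 F q) M)
    (hr : PP p (f * 4) r) (hb : 9 < r ^ a) (hd : r ^ a ∣ Nat.card H) :
    (Nat.card H).factorization p ≤ 2 * f ∨ 4 * f ≤ (Nat.card H).factorization p := by
  have hfin : Finite (GL (Fin 4) F) := inferInstance
  have hH : H ≤ SUg 4 F q := hHM.trans hM.1.le
  have hHG : H ≤ GU 4 F q := hH.trans inf_le_left
  have ha : a ≠ 0 := by rintro rfl; norm_num at hb
  have hrH : r ∣ Nat.card H := (dvd_pow_self r ha).trans hd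
  obtain ⟨y, hy, hpy⟩ := exists_prm hf hq hF hr hHG hrH
  rw [or_iff_not_imp_left]
  intro hv
  push Not at hv
  have hpH : p ∣ Nat.card H := by
    by_contra h
    rw [Nat.factorization_eq_zero_of_not_dvd h] at hv
    omega
  have hcopp : ∀ s : ℕ, s.Prime → ¬ s ∣ Nat.card F - 1 → Nat.Coprime s (q + 1) := by
    intro s hs hs1
    rw [hs.coprime_iff_not_dvd]
    intro h
    apply hs1
    rw [GeoU.nat_card_eq hF]
    have h3 : q ^ 2 - 1 = (q + 1) * (q - 1) := by
      obtain ⟨k, rfl⟩ : ∃ k, q = k + 1 := ⟨q - 1, by omega⟩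
      rw [Nat.add_sub_cancel]
      have : (k + 1) ^ 2 = (k + 1 + 1) * k + 1 := by ring
      omega
    rw [h3]
    exact Dvd.dvd.mul_right h _
  have hpF1 : ¬ p ∣ Nat.card F - 1 := by
    intro h
    have h1 : p ∣ Nat.card F := by
      rw [card_field hq hF]; exact dvd_pow_self _ (by omega)
    have h2 : 1 ≤ Nat.card F := Nat.card_pos
    have h3 : p ∣ 1 := by
      have := Nat.dvd_sub h1 h
      rwa [Nat.sub_sub_self h2] at this
    exact hp.one_lt.ne' (Nat.dvd_one.1 h3)
  rcases Cfsg.Agent.S5784.result q hF M hM with h | h | h | h | h | h | h | h | h | h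
  · -- totally singular subspaces
    obtain ⟨W, hW0, hW, rfl⟩ := h
    have hHW : H ≤ subspaceStabilizer W := hHM.trans inf_le_left
    have h1 := hpy.even_finrank (inv_Lg (hHW y.2))
    have h2 : 2 * finrank F W ≤ 4 := by
      have h3 := (H950.frm_herm hF 4).two_mul_finrank_le (H950.nd_top hF 4) le_top (W := W) hW
      rwa [finrank_top, finrank_fintype_fun_eq_card, Fintype.card_fin] at h3
    have hpos : 0 < finrank F W := by
      rw [Nat.pos_iff_ne_zero, Ne, Submodule.finrank_eq_zero]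
      exact hW0
    have h3 : finrank F W = 2 := by
      obtain ⟨k, hk⟩ := h1
      omega
    rcases ts_two hp hf hq hF hr hHG hrH hW h3 hHW with h4 | h4
    · omega
    · exact h4
  · -- nondegenerate points
    exfalso
    obtain ⟨W, hW0, -, hW2, rfl⟩ := h
    have hHW : H ≤ subspaceStabilizer W := hHM.trans inf_le_left
    have h1 := hpy.even_finrank (inv_Lg (hHW y.2))
    have hpos : 0 < finrank F W := by
      rw [Nat.pos_iff_ne_zero, Ne, Submodule.finrank_eq_zero]
      exact hW0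
    obtain ⟨k, hk⟩ := h1
    omega
  · -- orthonormal frames
    exfalso
    obtain ⟨-, D, hD, rfl⟩ := h
    have h1 := hrH.trans (Subgroup.card_dvd_of_le (hHM.trans inf_le_left))
    rcases decomp hD.decomp hr.prime (GeoU.not_dvd_card hF hr.prime hpy.not_dvd) h1 with h2 | h2
    · have := five_le hf hr
      omega
    · rw [GeoU.nat_card_eq hF] at h2
      have h3 := GeoU.ord_le_of_div (Nat.one_le_pow _ _ (LieClassical.HermBasic.q_pos hF)) h2
      rw [GeoU.ord_sq_even (ord_four hf hq hr) (by decide)] at h3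
      omega
  · exfalso
    obtain ⟨-, D, hD, rfl⟩ := h
    exact dec_nd hf hq hF hr hHG hrH hD (hHM.trans inf_le_left)
  · exfalso
    obtain ⟨-, D, hD, hT, rfl⟩ := h
    have := dec_ts hp hp2 hf hq hF hHG hD hT (hHM.trans inf_le_left)
    omega
  · -- subfields of odd prime index
    exfalso
    obtain ⟨F₀, t, P, ht, hto, hcd, -, rfl⟩ := h
    have h1 := hrH.trans (Subgroup.card_dvd_of_le (hHM.trans inf_le_left))
    rcases subfield hr.prime (GeoU.not_dvd_card hF hr.prime hpy.not_dvd) h1 with h2 | h2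
    · exact r_not_dvd hF hf hq hr h2
    · obtain ⟨i, hi1, hi2, hi3⟩ := h2
      rw [Fintype.card_fin] at hi2
      have ht3 : 3 ≤ t := by
        have h3 := ht.two_le
        have h4 : t ≠ 2 := by rintro rfl; exact absurd hto (by decide)
        omega
      have hcd' : p ^ (2 * f) = Nat.card F₀ ^ t := by
        rw [← hcd, ← Nat.card_eq_fintype_card, card_field hq hF]
      obtain ⟨e, -, he⟩ := (Nat.dvd_prime_pow hp).1 (show Nat.card F₀ ∣ p ^ (2 * f) by
        rw [hcd']; exact dvd_pow_self _ (by omega))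
      rw [he, ← pow_mul] at hcd' hi3
      have het : 2 * f = e * t := Nat.pow_right_injective hp.two_le hcd'
      have h4 := (hr.dvd_iff hp.one_lt.le _).1 hi3
      have he0 : 0 < e := by
        rcases Nat.eq_zero_or_pos e with rfl | h5
        · omega
        · exact h5
      have h5 : e * (2 * t) ∣ e * i := by
        have : f * 4 = e * (2 * t) := by
          calc f * 4 = 2 * (2 * f) := by ring
            _ = e * (2 * t) := by rw [het]; ring
        rwa [this] at h4
      have h6 := Nat.le_of_dvd (by omega) (Nat.dvd_of_mul_dvd_mul_left he0 h5)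
      omega
  · -- subfields of index 2, symplectic
    obtain ⟨F₀, P, ζ, hcd, hζ, -, hA, halt, rfl⟩ := h
    have hF₀ : Nat.card F₀ = q := by
      have h1 : Nat.card F₀ ^ 2 = q ^ 2 := by rw [← hcd, hF]
      exact Nat.pow_left_injective two_ne_zero h1
    have hHs : H ≤ subfieldSubgroup F₀ P := hHM.trans inf_le_left
    obtain ⟨H', hH', hc⟩ := sub_symp hF hF₀ hHG hA hζ halt
    have hfp := fac_comap hF hF₀ hHs hp (hcopp p hp hpF1)
    have hfr := fac_comap hF hF₀ hHs hr.prime (hcopp r hr.prime (r_not_dvd hF hf hq hr))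
    rw [← hc] at hfp hfr
    have hH'0 : Nat.card H' ≠ 0 := by
      rw [hc]
      have : Finite (GL (Fin 4) F₀) := inferInstance
      exact Nat.card_pos.ne'
    have hd' : r ^ a ∣ Nat.card H' := by
      rw [Nat.Prime.pow_dvd_iff_le_factorization hr.prime hH'0, hfr]
      exact (Nat.Prime.pow_dvd_iff_le_factorization hr.prime Nat.card_pos.ne').1 hd
    have : Fintype F₀ := Fintype.ofFinite F₀
    rcases hSp F₀ (by rw [hF₀, hq]) H' hH' hd' with h1 | h1
    · omega
    · rw [← hfp, le_antisymm hH' h1]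
      have h2 : Nat.card (spGL 2 F₀) ≠ 0 := by
        have : Finite (GL (Fin 2 ⊕ Fin 2) F₀) := inferInstance
        exact Nat.card_pos.ne'
      rw [← Nat.Prime.pow_dvd_iff_le_factorization hp h2]
      rw [H955.card_spGL, hF₀, hq]
      have h4 : (p ^ f) ^ 2 ^ 2 = p ^ (4 * f) := by rw [← pow_mul, mul_comm]; norm_num
      rw [h4]
      exact dvd_mul_right _ _
  · -- subfields of index 2, orthogonal
    exfalso
    obtain ⟨-, F₀, P, hcd, hA, rfl⟩ := h
    have hF₀ : Nat.card F₀ = q := by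
      have h1 : Nat.card F₀ ^ 2 = q ^ 2 := by rw [← hcd, hF]
      exact Nat.pow_left_injective two_ne_zero h1
    have := sub_orth hp hp2 hf hq hF hF₀ hHG (hHM.trans inf_le_left) hA
    omega
  · -- symplectic type
    exfalso
    obtain ⟨p', R, hp', hqp, -, hR', habs, -, hRc, hRz, rfl⟩ := h
    have h1 := hpH.trans (Subgroup.card_dvd_of_le (hHM.trans inf_le_left))
    rcases symplecticType (k := 2) hR' habs (Or.inr ⟨rfl, hRz, by rw [hRc]; norm_num⟩) (by norm_num) hp h1 with h2 | h2 | h2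
    · exact hp2 h2
    · exact hpF1 h2
    · have h3 : p ∣ p' := by
        rw [← hqp, hq]; exact dvd_pow_self _ (by omega)
      have h4 := (Nat.prime_dvd_prime_iff_eq hp hp').1 h3
      norm_num at h2
      omega
  · exfalso
    exact no_res hF hf hq h31 hR hr hb hM h (hd.trans (Subgroup.card_dvd_of_le hHM))

/-- orders 4 and 6 together: not in a proper subgroup -/
theorem su_second (hF : Fintype.card F = q ^ 2) (hp : p.Prime) (hf : 1 ≤ f) (hq : q = p ^ f) (h31 : 31 ≤ q)
    (hR : H900.SU4.Res F q) (hHM : H ≤ M) (hM : IsMaximalIn (SUg 4 F q) M)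
    (hr : PP p (f * 4) r) (hb : 9 < r ^ a) (hd : r ^ a ∣ Nat.card H) {s : ℕ} (hs : PP p (f * 6) s)
    (hsd : s ∣ Nat.card H) : False := by
  have hfin : Finite (GL (Fin 4) F) := inferInstance
  have hH : H ≤ SUg 4 F q := hHM.trans hM.1.le
  have hHG : H ≤ GU 4 F q := hH.trans inf_le_left
  have ha : a ≠ 0 := by rintro rfl; norm_num at hb
  have hrH : r ∣ Nat.card H := (dvd_pow_self r ha).trans hd
  obtain ⟨y, hy, hpy⟩ := exists_prm hf hq hF hr hHG hrH
  have hfs := Fact.mk hs.prime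
  obtain ⟨x, hx⟩ := exists_prime_orderOf_dvd_card' s hsd
  have hs7 : 7 ≤ s := by
    have := hs.lt (by omega)
    omega
  rcases H833.Spr4.cases_of hF hp hq hf hs.prime (fun k => by
      rw [hs.dvd_iff hp.one_lt.le k, show f * 6 = 2 * 3 * f by ring]) (ord_three hf hq hs) hs7
      (fun K h1 h2 => hR K h1 h2) hM (hHM x.2) (by rw [Subgroup.orderOf_coe, hx]) with
    ⟨W, hW1, -, hMW⟩ | ⟨P, -, hP, ⟨e⟩⟩ | ⟨P, h3, -⟩
  · have h1 := hpy.even_finrank (inv_Lg (hMW (hHM y.2)))
    rw [hW1] at h1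
    exact absurd h1 (by decide)
  · obtain ⟨S, hSH, hSc, hSp⟩ := exists_syl H hr.prime
    have h1 : r ^ a ∣ Nat.card S := by
      rw [hSc]
      exact pow_dvd_pow r ((Nat.Prime.pow_dvd_iff_le_factorization hr.prime Nat.card_pos.ne').1 hd)
    have h2 := H900.SU4.card_dvd_of_core hP S.subtype (fun b => hHM (hSH b.2))
      (fun b hb => syl_no_scalar hr.prime (r_not_dvd hF hf hq hr) hSp b hb)
    rw [Nat.card_congr (MulAut.congr e).toEquiv] at h2
    have := le_of_dvd_5040 hr.prime (five_le hf hr) ((h1.trans h2).trans H900.SU4.card_mulAut_alt_seven)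
    omega
  · omega

/-- **Subgroups of `SU_4(q)`.** -/
theorem su_core (hF : Fintype.card F = q ^ 2) (hp : p.Prime) (hp2 : p ≠ 2) (hf : 1 ≤ f) (hq : q = p ^ f) (h31 : 31 ≤ q)
    (hR : H900.SU4.Res F q) (hSp : SpCore p f r a) (hH : H ≤ SUg 4 F q) (hr : PP p (f * 4) r) (hb : 9 < r ^ a)
    (hd : r ^ a ∣ Nat.card H) :
    ((Nat.card H).factorization p ≤ 2 * f ∨ 4 * f ≤ (Nat.card H).factorization p) ∧
      ∀ s, PP p (f * 6) s → s ∣ Nat.card H → SUg 4 F q ≤ H := by
  have hfin : Finite (GL (Fin 4) F) := inferInstance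
  by_cases hn : SUg 4 F q ≤ H
  · refine ⟨Or.inr ?_, fun _ _ _ => hn⟩
    rw [le_antisymm hH hn]
    have := fac_su hF hp hf hq
    omega
  · obtain ⟨M, hM, hHM⟩ := H905.exists_isMaximalIn_of_lt (lt_of_le_not_ge hH hn)
    exact ⟨su_first hF hp hp2 hf hq h31 hR hSp hHM hM hr hb hd,
      fun s hs hsd => (su_second hF hp hf hq h31 hR hHM hM hr hb hd hs hsd).elim⟩

end

end Cfsg.Agent.H927.Om7
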