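import Cfsg.Agent.H927.Om7.SUSub

/-!
# S3691, `Ω_7(q)`, box B6-: subfield subgroups of index 2 of `SU_4(q)`: the forms

* `sub_symp` : symplectic type: the rational part embeds in `Sp_4(q)`;
* `sub_orth` : orthogonal type: the `p`-part is at most `p ^ (2 f)`.
-/

set_option autoImplicit false
set_option linter.unusedSectionVars false

namespace Cfsg.Agent.H927.Om7

open Cfsg Cfsg.Geo Module QuadraticMap Cfsg.Agent.H951 Cfsg.Agent.H251 Cfsg.Agent.H251.GeoCard Cfsg.Agent.H884.El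
open Cfsg.Agent.LieClassical.OrthFinite (glEquiv glEquiv_apply)
open Cfsg.Agent.LieClassical.OrthCore (O Nondeg)
open scoped Matrix MatrixGroups

section

variable {F : Type*} [Field F] [Fintype F] {F₀ : Subfield F} {A : GL (Fin 4) F} {q : ℕ} {ζ : F}
  {H : Subgroup (GL (Fin 4) F)}

/-- **Symplectic type.** -/
theorem sub_symp (hF : Fintype.card F = q ^ 2) (hF₀ : Nat.card F₀ = q) (hH : H ≤ GU 4 F q)
    (hA : IsFormRationalStructure (hermForm 4 F q) F₀ ζ A) (hζ : ζ ≠ 0)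
    (halt : ∀ u : Fin 4 → F, (∀ i, u i ∈ F₀) →
      hermForm 4 F q ((A : Matrix (Fin 4) (Fin 4) F) *ᵥ u) ((A : Matrix (Fin 4) (Fin 4) F) *ᵥ u) = 0) :
    ∃ H' : Subgroup (GL (Fin 2 ⊕ Fin 2) F₀), H' ≤ spGL 2 F₀ ∧ Nat.card H' = Nat.card (H.comap (psi F₀ A)) := by
  have hself : ∀ u, bf F₀ A hA u u = 0 := by
    intro u
    apply Subtype.ext
    rw [coe_bf, halt _ (up_mem u), mul_zero]
    rfl
  have hB : Frm (RingHom.id F₀) (-1) (bf F₀ A hA) :=
    { add_left := fun u v w => bf_add_left hA hF u v w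
      smul_left := fun c u v => bf_smul_left hA hF c u v
      herm := fun u v => by
        have h1 := hself (u + v)
        rw [bf_add_left hA hF, bf_add_right hA hF, bf_add_right hA hF, hself, hself, zero_add, add_zero] at h1
        rw [RingHom.id_apply, neg_one_mul]
        exact eq_neg_of_add_eq_zero_right h1
      sigma_sq := fun a => rfl
      eps_ne := neg_ne_zero.2 one_ne_zero }
  have hnd : Nd (bf F₀ A hA) (⊤ : Submodule F₀ (Fin 4 → F₀)) := by
    intro u _ hu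
    by_contra hcon
    push Not at hcon
    exact hu (bf_nd hA hF hζ fun v => hcon v Submodule.mem_top)
  obtain ⟨e, he⟩ := exists_symp hB hself hnd (k := 2) (by rw [finrank_top, finrank_fin_fun])
  let j : (Fin 2 ⊕ Fin 2 → F₀) ≃ₗ[F₀] (Fin 4 → F₀) := e.trans Submodule.topEquiv
  have hj : ∀ x y, bf F₀ A hA (j x) (j y) = sympForm 2 F₀ x y := he
  let ψ : ((Fin 4 → F₀) ≃ₗ[F₀] (Fin 4 → F₀)) →* (((Fin 2 ⊕ Fin 2) → F₀) ≃ₗ[F₀] ((Fin 2 ⊕ Fin 2) → F₀)) :=
    { toFun := fun g => (j.trans g).trans j.symm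
      map_one' := by ext1 v; simp
      map_mul' := fun g h => by ext1 v; simp }
  have hψ : ∀ g v, ψ g v = j.symm (g (j v)) := fun g v => rfl
  have hinj : Function.Injective ψ := by
    intro g h hgh
    ext1 v
    have h1 := congrArg (fun x => x (j.symm v)) hgh
    simpa [hψ] using h1
  let θ : GL (Fin 4) F₀ →* GL (Fin 2 ⊕ Fin 2) F₀ :=
    (glEquiv _ F₀).symm.toMonoidHom.comp (ψ.comp (glEquiv _ F₀).toMonoidHom)
  have hθ : Function.Injective θ := (glEquiv _ F₀).symm.injective.comp (hinj.comp (glEquiv _ F₀).injective)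
  have hθa : ∀ (h : GL (Fin 4) F₀) (v : Fin 2 ⊕ Fin 2 → F₀),
      ((θ h : GL (Fin 2 ⊕ Fin 2) F₀) : Matrix _ _ F₀) *ᵥ v = j.symm ((h : Matrix (Fin 4) (Fin 4) F₀) *ᵥ j v) := by
    intro h v
    have h1 : glEquiv _ F₀ (θ h) = ψ (glEquiv _ F₀ h) := by
      show glEquiv _ F₀ ((glEquiv _ F₀).symm (ψ (glEquiv _ F₀ h))) = _
      rw [MulEquiv.apply_symm_apply]
    rw [← glEquiv_apply, h1, hψ, glEquiv_apply]
  refine ⟨(H.comap (psi F₀ A)).map θ, ?_, Subgroup.card_map_of_injective hθ⟩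
  rintro _ ⟨h, hh, rfl⟩
  show ∀ u v, sympForm 2 F₀ (((θ h : GL (Fin 2 ⊕ Fin 2) F₀) : Matrix _ _ F₀) *ᵥ u)
    (((θ h : GL (Fin 2 ⊕ Fin 2) F₀) : Matrix _ _ F₀) *ᵥ v) = sympForm 2 F₀ u v
  intro u v
  rw [hθa, hθa, ← hj, ← hj, LinearEquiv.apply_symm_apply, LinearEquiv.apply_symm_apply]
  exact bf_isom hA (hH hh) _ _

theorem fac_aux {p f b : ℕ} (hp : p.Prime) (hp2 : p ≠ 2) (hf : 1 ≤ f)
    (hb : b = (p ^ f) ^ 2 - 1 ∨ b = (p ^ f) ^ 2 + 1) :
    (2 * (p ^ f) ^ 2 * b * ((p ^ f) ^ 2 - 1)).factorization p = 2 * f := by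
  have h2 : 1 < (p ^ f) ^ 2 := Nat.one_lt_pow (by omega) (Nat.one_lt_pow (by omega) hp.one_lt)
  have hd : p ∣ (p ^ f) ^ 2 := (dvd_pow_self p (by omega)).trans (dvd_pow_self _ (by omega))
  have hm : ¬ p ∣ (p ^ f) ^ 2 - 1 := by
    intro h
    have h3 : p ∣ 1 := by
      have := Nat.dvd_sub hd h
      rwa [Nat.sub_sub_self h2.le] at this
    exact hp.one_lt.ne' (Nat.dvd_one.1 h3)
  have hpl : ¬ p ∣ (p ^ f) ^ 2 + 1 := by
    intro h
    exact hp.one_lt.ne' (Nat.dvd_one.1 ((Nat.dvd_add_right hd).1 h))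
  have hbd : ¬ p ∣ b := by
    rcases hb with rfl | rfl
    · exact hm
    · exact hpl
  have hb0 : b ≠ 0 := by
    rintro rfl
    exact hbd (dvd_zero _)
  have h22 : ¬ p ∣ 2 := fun h => hp2 ((Nat.prime_dvd_prime_iff_eq hp Nat.prime_two).1 h)
  rw [Nat.factorization_mul (by positivity) (by omega), Nat.factorization_mul (by positivity) hb0,
    Nat.factorization_mul (by norm_num) (by positivity), Finsupp.add_apply, Finsupp.add_apply, Finsupp.add_apply,
    Nat.factorization_eq_zero_of_not_dvd h22, Nat.factorization_eq_zero_of_not_dvd hbd,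
    Nat.factorization_eq_zero_of_not_dvd hm, ← pow_mul, Nat.factorization_pow, Finsupp.smul_apply,
    hp.factorization_self, smul_eq_mul, mul_one]
  omega

/-- **Orthogonal type.** -/
theorem sub_orth {p f : ℕ} (hp : p.Prime) (hp2 : p ≠ 2) (hf : 1 ≤ f) (hq : q = p ^ f) (hF : Fintype.card F = q ^ 2)
    (hF₀ : Nat.card F₀ = q) (hH : H ≤ GU 4 F q) (hHs : H ≤ subfieldSubgroup F₀ A)
    (hA : IsFormRationalStructure (hermForm 4 F q) F₀ 1 A) :
    (Nat.card H).factorization p ≤ 2 * f := by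
  have h2 : (2 : F₀) ≠ 0 := by
    intro h
    have h1 : (p : F₀) = 0 := by
      apply Subtype.ext
      push_cast
      exact cast_p hp hf hq hF
    have hco : Nat.Coprime p 2 := (Nat.coprime_primes hp Nat.prime_two).2 hp2
    have h3 : ((Nat.gcdA p 2 : ℤ) : F₀) * (p : F₀) + ((Nat.gcdB p 2 : ℤ) : F₀) * 2 = 1 := by
      have h4 := Nat.gcd_eq_gcd_ab p 2
      rw [Nat.Coprime.gcd_eq_one hco] at h4
      have h5 := congrArg (fun x : ℤ => (x : F₀)) h4
      push_cast at h5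
      rw [h5]; ring
    rw [h1, h, mul_zero, mul_zero, add_zero] at h3
    exact zero_ne_one h3
  have hsymm : ∀ u v, bf F₀ A hA v u = bf F₀ A hA u v := by
    intro u v
    apply Subtype.ext
    rw [coe_bf, coe_bf, one_mul, one_mul, (H950.frm_herm hF 4).herm ((A : Matrix (Fin 4) (Fin 4) F) *ᵥ up F₀ u), one_mul,
      H950.cj_apply]
    have h1 : hermForm 4 F q ((A : Matrix (Fin 4) (Fin 4) F) *ᵥ up F₀ u) ((A : Matrix (Fin 4) (Fin 4) F) *ᵥ up F₀ v) ∈ F₀ := by
      have := hA _ _ (up_mem u) (up_mem v)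
      rwa [one_mul] at this
    rw [H914.mem_subfield_iff_pow, hF₀] at h1
    exact h1
  let b : LinearMap.BilinForm F₀ (Fin 4 → F₀) := LinearMap.mk₂ F₀ (bf F₀ A hA)
    (fun u v w => bf_add_left hA hF u v w) (fun c u v => bf_smul_left hA hF c u v)
    (fun u v w => bf_add_right hA hF v w u) (fun c u v => bf_smul_right hA hF hF₀ c u v)
  let Q : QuadraticForm F₀ (Fin 4 → F₀) := LinearMap.BilinMap.toQuadraticMap b
  have hQ : ∀ v, Q v = bf F₀ A hA v v := fun v => rfl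
  have hpol : ∀ u v, polar Q u v = 2 * bf F₀ A hA u v := by
    intro u v
    rw [polar, hQ, hQ, hQ, bf_add_left hA hF, bf_add_right hA hF, bf_add_right hA hF, hsymm u v]
    ring
  have hnd : Nondeg Q := by
    intro u hu
    apply bf_nd hA hF one_ne_zero
    intro v
    have := hu v
    rw [hpol] at this
    exact (mul_eq_zero.1 this).resolve_left h2
  have hfinV : Finite (Fin 4 → F₀) := inferInstance
  have hfinE : Finite ((Fin 4 → F₀) ≃ₗ[F₀] (Fin 4 → F₀)) := H791.PQL.finite_equiv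
  have hle : (H.comap (psi F₀ A)).map (glEquiv _ F₀).toMonoidHom ≤ O Q := by
    rintro _ ⟨h, hh, rfl⟩ v
    exact bf_isom hA (hH hh) v v
  have hcard : Nat.card (H.comap (psi F₀ A)) ∣ Nat.card (O Q) := by
    rw [← Subgroup.card_map_of_injective (f := (glEquiv _ F₀).toMonoidHom) (glEquiv _ F₀).injective]
    exact Subgroup.card_dvd_of_le hle
  have hcop : Nat.Coprime p (q + 1) := by
    rw [hp.coprime_iff_not_dvd]
    intro h
    have h3 : p ∣ q := by rw [hq]; exact dvd_pow_self _ (by omega)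
    exact hp.one_lt.ne' (Nat.dvd_one.1 ((Nat.dvd_add_right h3).1 h))
  rw [← fac_comap hF hF₀ hHs hp hcop]
  have hfd : finrank F₀ (Fin 4 → F₀) = 2 * 2 := by rw [finrank_fin_fun]
  have hO : (Nat.card (O Q)).factorization p = 2 * f := by
    by_cases hP : H955.IsPlus Q
    · rw [H955.card_O_of_isPlus hnd (m := 2) (by norm_num) hfd hP, hF₀, hq]
      rw [← fac_aux hp hp2 hf (Or.inl rfl)]
      norm_num
    · rw [H955.card_O_of_not_isPlus hnd (m := 2) hfd hP, hF₀, hq]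
      rw [← fac_aux hp hp2 hf (Or.inr rfl)]
      norm_num
  rw [← hO]
  exact (Nat.factorization_le_iff_dvd Nat.card_pos.ne' Nat.card_pos.ne').2 hcard p

end

end Cfsg.Agent.H927.Om7
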