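import Cfsg.Agent.H927.Om7.SUTwo
import Cfsg.Agent.H485.Rg.RelU
import Cfsg.Agent.H791.PQL.Ord

/-!
# S3691, `Ω_7(q)`, box B6-: the `p`-parts of the geometric subgroups of `SU_4(q)`

* `ts_two` : stabiliser of a totally isotropic 2-space: the `p`-part is at most `p ^ (2 f)` or at least `p ^ (4 f)`;
* `dec_ts` : stabiliser of a pair of totally isotropic 2-spaces: the `p`-part is at most `p ^ (2 f)`;
* `dec_nd` : stabiliser of a pair of nondegenerate 2-spaces: no `r`.
-/

set_option autoImplicit false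
set_option linter.unusedSectionVars false

namespace Cfsg.Agent.H927.Om7

open Cfsg Cfsg.Geo Module Cfsg.Agent.H951 Cfsg.Agent.H251 Cfsg.Agent.H251.GeoCard Cfsg.Agent.H884.El
open Cfsg.Agent.H485.Rg (resHom)
open scoped Matrix MatrixGroups

/-- a Sylow subgroup of a subgroup -/
theorem exists_syl {G : Type*} [Group G] [Finite G] (H : Subgroup G) {p : ℕ} (hp : p.Prime) :
    ∃ P ≤ H, Nat.card P = p ^ (Nat.card H).factorization p ∧ IsPGroup p P := by
  have := Fact.mk hp
  let S : Sylow p H := default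
  refine ⟨(S : Subgroup H).map H.subtype, Subgroup.map_subtype_le _, ?_, S.2.map _⟩
  rw [Subgroup.card_map_of_injective H.subtype_injective]
  exact S.card_eq_multiplicity

section Lin

variable {ι : Type} [Fintype ι] [DecidableEq ι] {F : Type*} [Field F]

/-- the linear map of a matrix -/
def Lg (g : GL ι F) : Module.End F (ι → F) := Matrix.toLin' (g : Matrix ι ι F)

theorem Lg_apply (g : GL ι F) (v : ι → F) : Lg g v = (g : Matrix ι ι F) *ᵥ v := Matrix.toLin'_apply _ _

theorem Lg_mul (g h : GL ι F) : Lg (g * h) = Lg g * Lg h := by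
  unfold Lg
  rw [Units.val_mul, Matrix.toLin'_mul]
  rfl

theorem Lg_one : Lg (1 : GL ι F) = 1 := by
  unfold Lg
  rw [Units.val_one, Matrix.toLin'_one]
  rfl

theorem Lg_pow (g : GL ι F) (k : ℕ) : Lg (g ^ k) = Lg g ^ k := by
  induction k with
  | zero => rw [pow_zero, pow_zero, Lg_one]
  | succ k ih => rw [pow_succ, pow_succ, Lg_mul, ih]

theorem Lg_injective : Function.Injective (Lg : GL ι F → Module.End F (ι → F)) := by
  intro g h hgh
  exact Units.ext (Matrix.toLin'.injective hgh)

theorem Lg_inj (g : GL ι F) : Function.Injective (Lg g) := by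
  intro u v huv
  have h1 : (Lg g⁻¹ * Lg g) u = (Lg g⁻¹ * Lg g) v := by
    rw [Module.End.mul_apply, Module.End.mul_apply, huv]
  rwa [← Lg_mul, inv_mul_cancel, Lg_one] at h1

/-- the number of linear automorphisms of a plane -/
theorem card_plane [Finite F] {V : Type*} [AddCommGroup V] [Module F V] [FiniteDimensional F V] (h : finrank F V = 2) :
    Nat.card (V ≃ₗ[F] V) = (Nat.card F ^ 2 - 1) * (Nat.card F ^ 2 - Nat.card F) := by
  rw [H791.PQL.card_equiv, h, Fin.prod_univ_two]
  simp

theorem fact_plane [Finite F] {V : Type*} [AddCommGroup V] [Module F V] [FiniteDimensional F V] (h : finrank F V = 2)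
    {p e : ℕ} (hp : p.Prime) (he : 1 ≤ e) (hF : Nat.card F = p ^ e) :
    (Nat.card (V ≃ₗ[F] V)).factorization p = e := by
  have h1 : Nat.card (V ≃ₗ[F] V) = p ^ e * ((p ^ (e * 2) - 1) * (p ^ e - 1)) := by
    rw [card_plane h, hF, ← pow_mul]
    have h2 : p ^ (e * 2) - p ^ e = p ^ e * (p ^ e - 1) := by
      rw [Nat.mul_sub, mul_one, ← pow_add, mul_two]
    rw [h2]; ring
  have h2 : 1 < p ^ e := Nat.one_lt_pow (by omega) hp.one_lt
  have h3 : 1 < p ^ (e * 2) := Nat.one_lt_pow (by omega) hp.one_lt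
  have h4 : ∀ k, 1 ≤ k → ¬ p ∣ p ^ k - 1 := by
    intro k hk hd
    have h5 : p ∣ p ^ k := dvd_pow_self _ (by omega)
    have h6 : 1 ≤ p ^ k := Nat.one_le_pow _ _ hp.pos
    have h7 : p ∣ 1 := by
      have := Nat.dvd_sub h5 hd
      rwa [Nat.sub_sub_self h6] at this
    exact hp.one_lt.ne' (Nat.dvd_one.1 h7)
  rw [h1, Nat.factorization_mul (by positivity) (by
    refine Nat.mul_ne_zero ?_ ?_ <;> omega), Finsupp.add_apply, Nat.factorization_pow, Finsupp.smul_apply,
    hp.factorization_self, smul_eq_mul, mul_one, Nat.factorization_eq_zero_of_not_dvd, add_zero]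
  intro hd
  rcases hp.dvd_mul.1 hd with hd | hd
  · exact h4 _ (by omega) hd
  · exact h4 _ he hd

end Lin

section Four

variable {F : Type*} [Field F] [Fintype F] {q p f r : ℕ} {H : Subgroup (GL (Fin 4) F)}
  {W : Submodule F (Fin 4 → F)}

theorem isom_Lg {g : GL (Fin 4) F} (hg : g ∈ GU 4 F q) : Isom (hermForm 4 F q) (Lg g) := by
  intro u v
  rw [Lg_apply, Lg_apply]
  exact H918.mem_GU.1 hg u v

/-- elements of order `r` -/
theorem exists_prm (hf : 1 ≤ f) (hq : q = p ^ f) (hF : Fintype.card F = q ^ 2) (hr : PP p (f * 4) r)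
    (hH : H ≤ GU 4 F q) (hd : r ∣ Nat.card H) : ∃ y : H, orderOf y = r ∧ Prm4 q r (Lg (y : GL (Fin 4) F)) := by
  have hfin : Finite (GL (Fin 4) F) := inferInstance
  have := Fact.mk hr.prime
  obtain ⟨y, hy⟩ := exists_prime_orderOf_dvd_card' r hd
  refine ⟨y, hy, hF, hr.prime, ord_four hf hq hr, isom_Lg (hH y.2), ?_, ?_⟩
  · rw [← Lg_pow, ← Subgroup.coe_pow, ← hy, pow_orderOf_eq_one, Subgroup.coe_one, Lg_one]
  · intro h1
    rw [← Lg_one] at h1
    have h2 : y = 1 := Subtype.ext (Lg_injective h1)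
    rw [h2, orderOf_one] at hy
    exact hr.prime.one_lt.ne hy

theorem inv_Lg {g : GL (Fin 4) F} (hg : g ∈ subspaceStabilizer W) : Inv (Lg g) W := GeoU.inv_of_mem hg

theorem card_field (hq : q = p ^ f) (hF : Fintype.card F = q ^ 2) : Nat.card F = p ^ (2 * f) := by
  rw [Nat.card_eq_fintype_card, hF, hq, ← pow_mul, mul_comm]

theorem cast_p (hp : p.Prime) (hf : 1 ≤ f) (hq : q = p ^ f) (hF : Fintype.card F = q ^ 2) : (p : F) = 0 := by
  have h1 : ((Fintype.card F : ℕ) : F) = 0 := Nat.cast_card_eq_zero F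
  rw [hF, hq, ← pow_mul, Nat.cast_pow] at h1
  exact pow_eq_zero_iff (by omega) |>.1 h1

/-- **Stabiliser of a totally isotropic 2-space.** -/
theorem ts_two (hp : p.Prime) (hf : 1 ≤ f) (hq : q = p ^ f) (hF : Fintype.card F = q ^ 2) (hr : PP p (f * 4) r)
    (hH : H ≤ GU 4 F q) (hd : r ∣ Nat.card H) (hT : TI (hermForm 4 F q) W) (hW2 : finrank F W = 2)
    (hHW : H ≤ subspaceStabilizer W) :
    (Nat.card H).factorization p ≤ 2 * f ∨ 4 * f ≤ (Nat.card H).factorization p := by
  have hfin : Finite (GL (Fin 4) F) := inferInstance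
  have hfe : Finite (W ≃ₗ[F] W) := H791.PQL.finite_equiv
  have hFp := card_field hq hF
  have h1 : Nat.card (resHom hHW).ker * Nat.card (resHom hHW).range = Nat.card H := by
    rw [← Subgroup.index_ker]
    exact Subgroup.card_mul_index _
  set N := (resHom hHW).ker with hN
  have hrange : (Nat.card (resHom hHW).range).factorization p ≤ 2 * f := by
    rw [← fact_plane (V := W) hW2 hp (by omega) hFp]
    exact (Nat.factorization_le_iff_dvd Nat.card_pos.ne' Nat.card_pos.ne').2 (Subgroup.card_subgroup_dvd_card _) p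
  have hfac : (Nat.card H).factorization p =
      (Nat.card N).factorization p + (Nat.card (resHom hHW).range).factorization p := by
    rw [← h1, Nat.factorization_mul Nat.card_pos.ne' Nat.card_pos.ne', Finsupp.add_apply]
  have hmemN : ∀ g : H, g ∈ N ↔ ∀ w ∈ W, Lg (g : GL (Fin 4) F) w = w := by
    intro g
    rw [hN, MonoidHom.mem_ker]
    constructor
    · intro h w hw
      have h5 := congrArg (fun e : W ≃ₗ[F] W => ((e ⟨w, hw⟩ : W) : Fin 4 → F)) h
      rw [Lg_apply]
      exact h5
    · intro h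
      apply LinearEquiv.ext
      intro w
      apply Subtype.ext
      have := h w w.2
      rw [Lg_apply] at this
      exact this
  have hB := H950.frm_herm hF 4
  have hnd := H950.nd_top hF 4
  have hperp : hB.perp W = W := by
    symm
    apply Submodule.eq_of_le_of_finrank_eq (hB.ti_iff.1 hT)
    have h1 := hB.finrank_perp_inf' hnd (le_top : W ≤ ⊤)
    rw [inf_top_eq, finrank_top, finrank_fintype_fun_eq_card, Fintype.card_fin] at h1
    omega
  have hpN : IsPGroup p N := by
    intro g
    refine ⟨1, ?_⟩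
    apply Subtype.ext
    apply Subtype.ext
    apply Lg_injective
    have hg := (hmemN g).1 g.2
    have hi := isom_Lg (hH (g : H).2)
    obtain ⟨n, hn⟩ : ∃ n : Module.End F (Fin 4 → F), Lg ((g : H) : GL (Fin 4) F) = 1 + n :=
      ⟨Lg ((g : H) : GL (Fin 4) F) - 1, by abel⟩
    rw [hn] at hg hi
    have hnW : ∀ w ∈ W, n w = 0 := by
      intro w hw
      have := hg w hw
      rw [LinearMap.add_apply, Module.End.one_apply] at this
      exact add_eq_left.1 this
    have hnv : ∀ v, n v ∈ W := by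
      intro v
      rw [← hperp]
      intro w hw
      have h1 := hi v w
      rw [LinearMap.add_apply, LinearMap.add_apply, Module.End.one_apply, Module.End.one_apply, hnW w hw, add_zero,
        hB.add_left] at h1
      exact add_eq_left.1 h1
    have hnn : n * n = 0 := by
      apply LinearMap.ext
      intro v
      rw [Module.End.mul_apply, hnW _ (hnv v), LinearMap.zero_apply]
    have hpow : ∀ k : ℕ, (1 + n) ^ k = 1 + (k : F) • n := by
      intro k
      induction k with
      | zero => rw [pow_zero, Nat.cast_zero, zero_smul, add_zero]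
      | succ k ih =>
        rw [pow_succ, ih, add_mul, one_mul, smul_mul_assoc, mul_add, mul_one, hnn, add_zero, Nat.cast_succ, add_smul,
          one_smul]
        abel
    have h2 : Lg ((((g ^ p ^ 1 : N) : H) : GL (Fin 4) F)) = (1 + n) ^ p := by
      rw [pow_one, Subgroup.coe_pow, Subgroup.coe_pow, Lg_pow, hn]
    rw [h2, hpow, cast_p hp hf hq hF, zero_smul, add_zero, Subgroup.coe_one, Subgroup.coe_one, Lg_one]
  have := Fact.mk hp
  obtain ⟨c, hc⟩ := (IsPGroup.iff_card).1 hpN
  have hfc : (Nat.card N).factorization p = c := by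
    rw [hc, Nat.factorization_pow, Finsupp.smul_apply, hp.factorization_self, smul_eq_mul, mul_one]
  rcases Nat.eq_zero_or_pos c with h0 | h0
  · left
    rw [hfac, hfc, h0, zero_add]
    exact hrange
  · right
    obtain ⟨y, hy, hpy⟩ := exists_prm hf hq hF hr hH hd
    have hfr := Fact.mk hr.prime
    let A : Subgroup H := Subgroup.zpowers y
    have hA : IsPGroup r A := by
      apply IsPGroup.of_card (n := 1)
      rw [pow_one, Nat.card_zpowers, hy]
    let _ : MulAction A N := MulAction.compHom N ((MulAut.conjNormal (H := N)).comp A.subtype)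
    have hact : ∀ (a : A) (g : N), (((a • g : N) : H)) = (a : H) * g * (a : H)⁻¹ := by
      intro a g
      exact MulAut.conjNormal_apply (a : H) g
    have hmod := hA.card_modEq_card_fixedPoints N
    have hfix : Nat.card (MulAction.fixedPoints A N) = 1 := by
      rw [Nat.card_eq_one_iff_unique]
      constructor
      · refine ⟨fun a b => ?_⟩
        have hone : ∀ g : MulAction.fixedPoints A N, (g : N) = 1 := by
          intro g
          have h2 := g.2 ⟨y, Subgroup.mem_zpowers y⟩
          have h3 := congrArg (Subtype.val : N → H) h2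
          rw [hact] at h3
          have h4 : ((g : N) : H) * y = y * ((g : N) : H) := by
            have h5 : y * ((g : N) : H) * y⁻¹ = ((g : N) : H) := h3
            rw [mul_inv_eq_iff_eq_mul] at h5
            exact h5.symm
          apply Subtype.ext
          apply Subtype.ext
          apply Lg_injective
          rw [Subgroup.coe_one, Subgroup.coe_one, Lg_one]
          refine hpy.no_comm (inv_Lg (hHW y.2)) hW2 hT (isom_Lg (hH ((g : N) : H).2)) ((hmemN _).1 (g : N).2) ?_
          rw [← Lg_mul, ← Lg_mul, ← Subgroup.coe_mul, ← Subgroup.coe_mul, h4]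
        exact Subtype.ext ((hone a).trans (hone b).symm)
      · exact ⟨⟨1, fun a => Subtype.ext (by rw [hact]; simp)⟩⟩
    rw [hfix, hc] at hmod
    have h2 : r ∣ p ^ c - 1 := (Nat.modEq_iff_dvd' (Nat.one_le_pow _ _ hp.pos)).1 hmod.symm
    have h3 := (hr.dvd_iff hp.one_lt.le c).1 h2
    have h4 := Nat.le_of_dvd h0 h3
    rw [hfac, hfc]
    omega

theorem mem_stab_of_map {g : GL (Fin 4) F} (h : W.map (Lg g) = W) : g ∈ subspaceStabilizer W := by
  rw [H918.mem_subspaceStabilizer]
  intro v
  rw [← Lg_apply]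
  constructor
  · intro hv
    have : Lg g v ∈ W.map (Lg g) := ⟨v, hv, rfl⟩
    rwa [h] at this
  · intro hv
    rw [← h] at hv
    obtain ⟨w, hw, hwv⟩ := hv
    rwa [← Lg_inj g hwv]

theorem map_of_odd {D : Fin 2 → Submodule F (Fin 4 → F)} (hD : Function.Injective D) {g : GL (Fin 4) F}
    (hg : g ∈ decompositionStabilizer D) {m : ℕ} (hm : Odd m) (hgm : g ^ m = 1) (i : Fin 2) :
    (D i).map (Lg g) = D i := by
  obtain ⟨σ, hσ⟩ := hg
  have hσ' : ∀ i, (D i).map (Lg g) = D (σ i) := hσ
  have hpow : ∀ (k : ℕ) (i : Fin 2), (D i).map (Lg (g ^ k)) = D ((σ ^ k) i) := by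
    intro k
    induction k with
    | zero =>
      intro i
      rw [pow_zero, pow_zero, Lg_one]
      exact Submodule.map_id _
    | succ k ih =>
      intro i
      rw [pow_succ', Lg_mul, pow_succ', Equiv.Perm.mul_apply, ← hσ', ← ih]
      exact Submodule.map_comp _ _ _
  have h1 : σ ^ m = 1 := by
    ext1 i
    apply hD
    rw [← hpow, hgm, Lg_one]
    exact Submodule.map_id _
  have h2 : ∀ τ : Equiv.Perm (Fin 2), τ ^ 2 = 1 := by decide
  obtain ⟨j, hj⟩ := hm
  have h3 : σ = 1 := by
    rw [hj, pow_succ, pow_mul, h2, one_pow, one_mul] at h1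
    exact h1
  rw [hσ', h3]
  rfl

theorem injective_of_decomp {D : Fin 2 → Submodule F (Fin 4 → F)} (hD : IsMDecomposition 2 D) :
    Function.Injective D := by
  intro i j hij
  by_contra hne
  have h1 : Disjoint (D i) (D j) := hD.indep.pairwiseDisjoint hne
  rw [← hij, disjoint_self] at h1
  have h3 := hD.finrank_eq i
  rw [h1, finrank_bot] at h3
  omega

/-- **Stabiliser of a pair of nondegenerate 2-spaces.** -/
theorem dec_nd (hf : 1 ≤ f) (hq : q = p ^ f) (hF : Fintype.card F = q ^ 2) (hr : PP p (f * 4) r)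
    (hH : H ≤ GU 4 F q) (hd : r ∣ Nat.card H) {D : Fin 2 → Submodule F (Fin 4 → F)}
    (hD : IsNondegenerateMDecomposition (hermForm 4 F q) 2 D) (hHD : H ≤ decompositionStabilizer D) : False := by
  obtain ⟨y, hy, hpy⟩ := exists_prm hf hq hF hr hH hd
  have hyr : (y : GL (Fin 4) F) ^ r = 1 := by
    rw [← Subgroup.coe_pow, ← hy, pow_orderOf_eq_one, Subgroup.coe_one]
  have h1 := map_of_odd (injective_of_decomp hD.decomp) (hHD y.2) (hr.odd (by omega)) hyr 0
  refine hpy.not_nd_two (inv_Lg (mem_stab_of_map h1)) (hD.decomp.finrank_eq 0) ?_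
  intro u hu hu0
  exact (hD.nondegenerate 0 u hu hu0).2

/-- **Stabiliser of a pair of totally isotropic 2-spaces.** -/
theorem dec_ts (hp : p.Prime) (hp2 : p ≠ 2) (hf : 1 ≤ f) (hq : q = p ^ f) (hF : Fintype.card F = q ^ 2)
    (hH : H ≤ GU 4 F q) {D : Fin 2 → Submodule F (Fin 4 → F)} (hD : IsMDecomposition 2 D)
    (hT : ∀ i, TI (hermForm 4 F q) (D i)) (hHD : H ≤ decompositionStabilizer D) :
    (Nat.card H).factorization p ≤ 2 * f := by
  have hfin : Finite (GL (Fin 4) F) := inferInstance
  have hfe : Finite (D 0 ≃ₗ[F] D 0) := H791.PQL.finite_equiv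
  have hFp := card_field hq hF
  have hB := H950.frm_herm hF 4
  have hnd := H950.nd_top hF 4
  obtain ⟨P, hPH, hPc, hPp⟩ := exists_syl H hp
  have hst : ∀ i, P ≤ subspaceStabilizer (D i) := by
    intro i g hg
    obtain ⟨k, hk⟩ := hPp ⟨g, hg⟩
    have hk' : g ^ p ^ k = 1 := congrArg Subtype.val hk
    exact mem_stab_of_map (map_of_odd (injective_of_decomp hD) (hHD (hPH hg)) ((hp.odd_of_ne_two hp2).pow) hk' i)
  have htop : ∀ v : Fin 4 → F, ∃ w ∈ D 0, ∃ t ∈ D 1, w + t = v := by
    intro v
    refine Submodule.mem_sup.1 ?_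
    have h1 : iSup D = D 0 ⊔ D 1 := by
      apply le_antisymm
      · rw [iSup_le_iff]
        intro i
        fin_cases i
        · exact le_sup_left
        · exact le_sup_right
      · exact sup_le (le_iSup D 0) (le_iSup D 1)
    rw [← h1, hD.iSup_eq_top]
    exact Submodule.mem_top
  have hinj : Function.Injective (resHom (hst 0)) := by
    rw [injective_iff_map_eq_one]
    intro g hg
    have h0 : ∀ w ∈ D 0, Lg (g : GL (Fin 4) F) w = w := by
      intro w hw
      have h5 := congrArg (fun e : D 0 ≃ₗ[F] D 0 => ((e ⟨w, hw⟩ : D 0) : Fin 4 → F)) hg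
      rw [Lg_apply]
      exact h5
    have hi := isom_Lg (hH (hPH g.2))
    have h1 : ∀ t ∈ D 1, Lg (g : GL (Fin 4) F) t = t := by
      intro t ht
      have hm : Lg (g : GL (Fin 4) F) t ∈ D 1 := inv_Lg (hst 1 g.2) t ht
      rw [← sub_eq_zero]
      by_contra hne
      obtain ⟨v, -, hv⟩ := hnd _ Submodule.mem_top hne
      apply hv
      obtain ⟨w, hw, t', ht', rfl⟩ := htop v
      rw [hB.add_right, hT 1 _ ((D 1).sub_mem hm ht) t' ht', add_zero, hB.sub_left]
      have h3 := hi t w
      rw [h0 w hw] at h3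
      rw [h3, sub_self]
    apply Subtype.ext
    apply Lg_injective
    apply LinearMap.ext
    intro v
    obtain ⟨w, hw, t, ht, rfl⟩ := htop v
    rw [map_add, h0 w hw, h1 t ht, Subgroup.coe_one, Lg_one, Module.End.one_apply]
  have h1 : Nat.card P ∣ Nat.card (D 0 ≃ₗ[F] D 0) := Subgroup.card_dvd_of_injective _ hinj
  rw [hPc] at h1
  have h2 := (Nat.Prime.pow_dvd_iff_le_factorization hp Nat.card_pos.ne').1 h1
  rwa [fact_plane (V := D 0) (hD.finrank_eq 0) hp (by omega) hFp] at h2

end Four

end Cfsg.Agent.H927.Om7
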