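import Cfsg.Agent.H927.Om7.SUParts
import Cfsg.Agent.H914.Sub
import Cfsg.Agent.H951.Iso
import Cfsg.Agent.H955.QElt

/-!
# S3691, `Ω_7(q)`, box B6-: subfield subgroups of index 2 of `SU_4(q)`

* `fac_comap` : the `s`-part of a subgroup of a subfield group of index 2, `s` a prime not dividing `q + 1`, is the
  `s`-part of its rational part;
* `sub_symp` : symplectic type: the rational part embeds in `Sp_4(q)`;
* `sub_orth` : orthogonal type: the `p`-part is at most `p ^ (2 f)`.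
-/

set_option autoImplicit false
set_option linter.unusedSectionVars false

namespace Cfsg.Agent.H927.Om7

open Cfsg Cfsg.Geo Module Cfsg.Agent.H951 Cfsg.Agent.H251 Cfsg.Agent.H251.GeoCard Cfsg.Agent.H884.El
open Cfsg.Agent.LieClassical.OrthFinite (glEquiv glEquiv_apply)
open Cfsg.Agent.LieClassical.OrthCore (O Nondeg)
open scoped Matrix MatrixGroups

section General

variable {ι : Type} [Fintype ι] [DecidableEq ι] {F : Type*} [Field F] [Fintype F] {F₀ : Subfield F} {A : GL ι F} {q : ℕ}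

/-- elements of order prime to `q + 1` are rational -/
theorem rational [Nonempty ι] (hF : Fintype.card F = q ^ 2) (hF₀ : Nat.card F₀ = q) {g : GL ι F}
    (hg : g ∈ subfieldSubgroup F₀ A) {m : ℕ} (hm : Nat.Coprime m (q + 1)) (hgm : g ^ m = 1) (i j : ι) :
    ((A⁻¹ * g * A : GL ι F) : Matrix ι ι F) i j ∈ F₀ := by
  obtain ⟨c, hc0, hc⟩ := H914.mem_subfieldSubgroup_iff.1 hg
  set B := A⁻¹ * g * A with hB
  have hBm : B ^ m = 1 := by
    have : B = A⁻¹ * g * (A⁻¹)⁻¹ := by rw [hB, inv_inv]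
    rw [this, conj_pow, hgm, mul_one, mul_inv_cancel]
  let C : Matrix ι ι F₀ := fun i j => ⟨c * (B : Matrix ι ι F) i j, hc i j⟩
  have hC : C.map (F₀.subtype) = c • (B : Matrix ι ι F) := by
    ext i j
    rfl
  have h1 : (C ^ m).map (F₀.subtype) = (c ^ m) • (1 : Matrix ι ι F) := by
    have : (C ^ m).map (F₀.subtype) = (C.map (F₀.subtype)) ^ m := by
      have := map_pow (RingHom.mapMatrix (m := ι) F₀.subtype) C m
      exact this
    rw [this, hC, smul_pow, ← Units.val_pow_eq_pow_val, hBm, Units.val_one]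
  have h2 : c ^ m ∈ F₀ := by
    obtain ⟨i⟩ := ‹Nonempty ι›
    have h3 := congrFun (congrFun h1 i) i
    simp only [Matrix.map_apply, Matrix.smul_apply, Matrix.one_apply_eq, smul_eq_mul, mul_one] at h3
    rw [← h3]
    exact ((C ^ m) i i).2
  have hq1 : 1 ≤ q := by
    rw [← hF₀]; exact Nat.card_pos
  have h3 : c ^ (q - 1) = 1 := by
    have h4 : (c ^ (q - 1)) ^ m = 1 := by
      have h5 := (H914.mem_subfield_iff_pow F₀ _).1 h2
      rw [hF₀] at h5
      have h6 : c ^ m * (c ^ m) ^ (q - 1) = c ^ m * 1 := by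
        rw [← pow_succ', Nat.sub_add_cancel hq1, h5, mul_one]
      have h7 := mul_left_cancel₀ (pow_ne_zero _ hc0) h6
      rw [← h7, ← pow_mul, ← pow_mul, mul_comm]
    have h5 : (c ^ (q - 1)) ^ (q + 1) = 1 := by
      rw [← pow_mul, show (q - 1) * (q + 1) = q ^ 2 - 1 by
        obtain ⟨k, rfl⟩ : ∃ k, q = k + 1 := ⟨q - 1, by omega⟩
        rw [Nat.add_sub_cancel]
        have : (k + 1) ^ 2 = k * (k + 1 + 1) + 1 := by ring
        omega, ← hF]
      exact FiniteField.pow_card_sub_one_eq_one c hc0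
    have h6 : orderOf (c ^ (q - 1)) ∣ Nat.gcd m (q + 1) :=
      Nat.dvd_gcd (orderOf_dvd_of_pow_eq_one h4) (orderOf_dvd_of_pow_eq_one h5)
    rw [Nat.Coprime.gcd_eq_one hm, Nat.dvd_one, orderOf_eq_one_iff] at h6
    exact h6
  have h4 : c ∈ F₀ := by
    rw [H914.mem_subfield_iff_pow, hF₀]
    rw [show q = (q - 1) + 1 by omega, pow_succ, h3, one_mul]
  have h5 := F₀.mul_mem (F₀.inv_mem h4) (hc i j)
  rwa [inv_mul_cancel_left₀ hc0] at h5

/-- the embedding `h ↦ A h A⁻¹` -/
noncomputable def psi (F₀ : Subfield F) (A : GL ι F) : GL ι F₀ →* GL ι F :=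
  (MulAut.conj A).toMonoidHom.comp (Matrix.GeneralLinearGroup.map (F₀.subtype : F₀ →+* F))

theorem psi_apply (h : GL ι F₀) :
    psi F₀ A h = A * Matrix.GeneralLinearGroup.map (F₀.subtype : F₀ →+* F) h * A⁻¹ := rfl

theorem psi_injective : Function.Injective (psi F₀ A) := by
  intro g h hgh
  have h1 := (MulAut.conj A).injective hgh
  apply Units.ext
  ext i j
  have h2 := congrArg (fun x : GL ι F => (x : Matrix ι ι F) i j) h1
  exact h2

theorem mem_range_psi {g : GL ι F} (h : ∀ i j, ((A⁻¹ * g * A : GL ι F) : Matrix ι ι F) i j ∈ F₀) :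
    g ∈ (psi F₀ A).range := by
  let C : Matrix ι ι F₀ := fun i j => ⟨((A⁻¹ * g * A : GL ι F) : Matrix ι ι F) i j, h i j⟩
  have hC : C.map (F₀.subtype) = ((A⁻¹ * g * A : GL ι F) : Matrix ι ι F) := by
    ext i j
    rfl
  have hdet : C.det ≠ 0 := by
    intro h0
    have h1 : (C.map (F₀.subtype)).det = 0 := by
      have h2 := RingHom.map_det (F₀.subtype) C
      rw [h0, map_zero] at h2
      exact h2.symm
    rw [hC] at h1
    have h2 : IsUnit ((A⁻¹ * g * A : GL ι F) : Matrix ι ι F).det :=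
      (Matrix.isUnit_iff_isUnit_det _).1 (A⁻¹ * g * A).isUnit
    rw [h1] at h2
    exact not_isUnit_zero h2
  refine ⟨Matrix.GeneralLinearGroup.mkOfDetNeZero C hdet, ?_⟩
  rw [psi_apply]
  have h3 : Matrix.GeneralLinearGroup.map (F₀.subtype : F₀ →+* F) (Matrix.GeneralLinearGroup.mkOfDetNeZero C hdet) =
      A⁻¹ * g * A := by
    apply Units.ext
    exact hC
  rw [h3]
  group

/-- `s`-parts of the rational part -/
theorem fac_comap [Nonempty ι] (hF : Fintype.card F = q ^ 2) (hF₀ : Nat.card F₀ = q) {H : Subgroup (GL ι F)}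
    (hH : H ≤ subfieldSubgroup F₀ A) {s : ℕ} (hs : s.Prime) (hsq : Nat.Coprime s (q + 1)) :
    (Nat.card (H.comap (psi F₀ A))).factorization s = (Nat.card H).factorization s := by
  have hfin : Finite (GL ι F) := inferInstance
  have hc : Nat.card (H.comap (psi F₀ A)) = Nat.card (H ⊓ (psi F₀ A).range : Subgroup (GL ι F)) := by
    rw [← Subgroup.card_map_of_injective (psi_injective (F₀ := F₀) (A := A)), Subgroup.map_comap_eq, inf_comm]
  rw [hc]
  apply le_antisymm
  · exact (Nat.factorization_le_iff_dvd Nat.card_pos.ne' Nat.card_pos.ne').2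
      (Subgroup.card_dvd_of_le inf_le_left) s
  · obtain ⟨P, hPH, hPc, hPp⟩ := exists_syl H hs
    have h1 : P ≤ H ⊓ (psi F₀ A).range := by
      refine le_inf hPH fun g hg => mem_range_psi ?_
      obtain ⟨k, hk⟩ := hPp ⟨g, hg⟩
      have hk' : g ^ s ^ k = 1 := congrArg Subtype.val hk
      exact rational hF hF₀ (hH (hPH hg)) (Nat.Coprime.pow_left k hsq) hk'
    have h2 := Subgroup.card_dvd_of_le h1
    rw [hPc] at h2
    exact (Nat.Prime.pow_dvd_iff_le_factorization hs Nat.card_pos.ne').1 h2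

/-- extension of scalars of a vector -/
def up (F₀ : Subfield F) (v : ι → F₀) : ι → F := fun i => (v i : F)

theorem up_mem (v : ι → F₀) (i : ι) : up F₀ v i ∈ F₀ := (v i).2

theorem up_mulVec (h : GL ι F₀) (v : ι → F₀) :
    up F₀ ((h : Matrix ι ι F₀) *ᵥ v) =
      ((Matrix.GeneralLinearGroup.map (F₀.subtype : F₀ →+* F) h : GL ι F) : Matrix ι ι F) *ᵥ up F₀ v := by
  funext i
  unfold up
  rw [Matrix.mulVec, dotProduct, Matrix.mulVec, dotProduct, AddSubmonoidClass.coe_finsetSum]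
  exact Finset.sum_congr rfl fun j _ => rfl

theorem psi_mulVec (h : GL ι F₀) (v : ι → F₀) :
    ((psi F₀ A h : GL ι F) : Matrix ι ι F) *ᵥ ((A : Matrix ι ι F) *ᵥ up F₀ v) =
      (A : Matrix ι ι F) *ᵥ up F₀ ((h : Matrix ι ι F₀) *ᵥ v) := by
  rw [up_mulVec, Matrix.mulVec_mulVec, Matrix.mulVec_mulVec, ← Units.val_mul, ← Units.val_mul, psi_apply]
  congr 2
  group

theorem up_add (u v : ι → F₀) : up F₀ (u + v) = up F₀ u + up F₀ v := rfl

theorem up_smul (c : F₀) (v : ι → F₀) : up F₀ (c • v) = (c : F) • up F₀ v := rfl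

theorem up_injective : Function.Injective (up F₀ : (ι → F₀) → ι → F) := by
  intro u v h
  funext i
  exact Subtype.ext (congrFun h i)

end General

section Form

variable {n : ℕ} {F : Type*} [Field F] [Fintype F] {F₀ : Subfield F} {A : GL (Fin n) F} {q : ℕ} {ζ : F}

/-- the rational form -/
def bf (F₀ : Subfield F) (A : GL (Fin n) F) {ζ : F} (hA : IsFormRationalStructure (hermForm n F q) F₀ ζ A)
    (u v : Fin n → F₀) : F₀ :=
  ⟨ζ * hermForm n F q ((A : Matrix (Fin n) (Fin n) F) *ᵥ up F₀ u) ((A : Matrix (Fin n) (Fin n) F) *ᵥ up F₀ v),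
    hA _ _ (up_mem u) (up_mem v)⟩

variable (hA : IsFormRationalStructure (hermForm n F q) F₀ ζ A)

theorem coe_bf (u v : Fin n → F₀) : ((bf F₀ A hA u v : F₀) : F) =
    ζ * hermForm n F q ((A : Matrix (Fin n) (Fin n) F) *ᵥ up F₀ u) ((A : Matrix (Fin n) (Fin n) F) *ᵥ up F₀ v) := rfl

theorem bf_add_left (hF : Fintype.card F = q ^ 2) (u v w : Fin n → F₀) :
    bf F₀ A hA (u + v) w = bf F₀ A hA u w + bf F₀ A hA v w := by
  apply Subtype.ext
  rw [Subfield.coe_add, coe_bf, coe_bf, coe_bf, up_add, Matrix.mulVec_add, (H950.frm_herm hF n).add_left, mul_add]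

theorem bf_add_right (hF : Fintype.card F = q ^ 2) (u v w : Fin n → F₀) :
    bf F₀ A hA w (u + v) = bf F₀ A hA w u + bf F₀ A hA w v := by
  apply Subtype.ext
  rw [Subfield.coe_add, coe_bf, coe_bf, coe_bf, up_add, Matrix.mulVec_add, (H950.frm_herm hF n).add_right, mul_add]

theorem bf_smul_left (hF : Fintype.card F = q ^ 2) (c : F₀) (u v : Fin n → F₀) :
    bf F₀ A hA (c • u) v = c * bf F₀ A hA u v := by
  apply Subtype.ext
  rw [Subfield.coe_mul, coe_bf, coe_bf, up_smul, Matrix.mulVec_smul, (H950.frm_herm hF n).smul_left]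
  ring

theorem bf_smul_right (hF : Fintype.card F = q ^ 2) (hF₀ : Nat.card F₀ = q) (c : F₀) (u v : Fin n → F₀) :
    bf F₀ A hA u (c • v) = c * bf F₀ A hA u v := by
  apply Subtype.ext
  have h1 : (c : F) ^ q = c := by
    have := (H914.mem_subfield_iff_pow F₀ (c : F)).1 c.2
    rwa [hF₀] at this
  rw [Subfield.coe_mul, coe_bf, coe_bf, up_smul, Matrix.mulVec_smul, (H950.frm_herm hF n).smul_right,
    H950.cj_apply, h1]
  ring

/-- the rational form is nondegenerate -/
theorem bf_nd (hF : Fintype.card F = q ^ 2) (hζ : ζ ≠ 0) {u : Fin n → F₀} (hu : ∀ v, bf F₀ A hA u v = 0) : u = 0 := by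
  have hB := H950.frm_herm hF n
  by_contra hne
  have h1 : (A : Matrix (Fin n) (Fin n) F) *ᵥ up F₀ u ≠ 0 := by
    intro h0
    apply hne
    apply up_injective (F₀ := F₀)
    have h2 : ((A⁻¹ : GL (Fin n) F) : Matrix (Fin n) (Fin n) F) *ᵥ ((A : Matrix (Fin n) (Fin n) F) *ᵥ up F₀ u) = up F₀ u := by
      rw [Matrix.mulVec_mulVec, ← Units.val_mul, inv_mul_cancel, Units.val_one, Matrix.one_mulVec]
    rw [← h2, h0, Matrix.mulVec_zero]
    rfl
  obtain ⟨y, -, hy⟩ := H950.nd_top hF n _ Submodule.mem_top h1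
  apply hy
  have h2 : ∀ i : Fin n, hermForm n F q ((A : Matrix (Fin n) (Fin n) F) *ᵥ up F₀ u)
      ((A : Matrix (Fin n) (Fin n) F) *ᵥ Pi.single i 1) = 0 := by
    intro i
    have h3 := congrArg (Subtype.val : F₀ → F) (hu (Pi.single i 1))
    rw [coe_bf] at h3
    have h4 : up F₀ (Pi.single i 1 : Fin n → F₀) = Pi.single i 1 := by
      funext j
      unfold up
      by_cases h : j = i
      · subst h; simp
      · simp [Pi.single_eq_of_ne h]
    rw [h4] at h3
    exact (mul_eq_zero.1 h3).resolve_left hζ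
  have h3 : y = (A : Matrix (Fin n) (Fin n) F) *ᵥ (((A⁻¹ : GL (Fin n) F) : Matrix (Fin n) (Fin n) F) *ᵥ y) := by
    rw [Matrix.mulVec_mulVec, ← Units.val_mul, mul_inv_cancel, Units.val_one, Matrix.one_mulVec]
  set z := ((A⁻¹ : GL (Fin n) F) : Matrix (Fin n) (Fin n) F) *ᵥ y with hz
  have h4 : z = ∑ i, z i • (Pi.single i 1 : Fin n → F) := by
    rw [← pi_eq_sum_univ' z] 
  rw [h3, h4, Matrix.mulVec_sum, hB.sum_right]
  apply Finset.sum_eq_zero
  intro i _
  rw [Matrix.mulVec_smul, hB.smul_right, h2, mul_zero]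

/-- rational isometries -/
theorem bf_isom {h : GL (Fin n) F₀} (hh : psi F₀ A h ∈ GU n F q) (u v : Fin n → F₀) :
    bf F₀ A hA ((h : Matrix (Fin n) (Fin n) F₀) *ᵥ u) ((h : Matrix (Fin n) (Fin n) F₀) *ᵥ v) = bf F₀ A hA u v := by
  apply Subtype.ext
  rw [coe_bf, coe_bf, ← psi_mulVec, ← psi_mulVec]
  rw [H918.mem_GU.1 hh]

end Form

end Cfsg.Agent.H927.Om7
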