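import Cfsg.Agent.H251.GeoU
import Cfsg.Agent.H884.ElKill

/-!
# S3691, `Ω_7(q)`, box B6-: elements of `GU_4(q)` whose order is a primitive prime of order 4

* `ord_four`, `ord_three` : the orders of `-q`;
* `Prm4.fx_eq_bot`, `Prm4.even_finrank`, `Prm4.not_nd_two`, `Prm4.no_comm` : an isometry `x ≠ 1` of prime order `r`, `r` of
  order 4 modulo `q`, has no fixed vector, its invariant subspaces have even dimension, there is no nondegenerate
  invariant 2-space, and it commutes with no isometry which is trivial on an invariant totally isotropic 2-space.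
-/

set_option autoImplicit false

namespace Cfsg.Agent.H927.Om7

open Cfsg Cfsg.Geo Module Cfsg.Agent.H951 Cfsg.Agent.H251 Cfsg.Agent.H884.El
open Cfsg.Agent.LieClassical
open scoped Matrix MatrixGroups

theorem ord_four {p f q r : ℕ} (hf : 1 ≤ f) (hq : q = p ^ f) (hr : PP p (f * 4) r) :
    orderOf (-(q : ZMod r)) = 4 := by
  have := Fact.mk hr.prime
  have h := (PP.of_pow hr hf).ord
  rw [← hq] at h
  have h4 : (q : ZMod r) ^ 4 = 1 := by rw [← h, pow_orderOf_eq_one]
  have h2 : (q : ZMod r) ^ 2 ≠ 1 := by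
    intro h2
    have := orderOf_dvd_of_pow_eq_one h2
    rw [h] at this
    norm_num at this
  have := orderOf_eq_prime_pow (x := -(q : ZMod r)) (p := 2) (n := 1) (by rw [pow_one, neg_sq]; exact h2)
    (by rw [show 2 ^ (1 + 1) = 4 by norm_num, (by decide : Even 4).neg_pow]; exact h4)
  rw [this]; norm_num

theorem ord_three {p f q s : ℕ} (hf : 1 ≤ f) (hq : q = p ^ f) (hs : PP p (f * 6) s) :
    orderOf (-(q : ZMod s)) = 3 := by
  have := Fact.mk hs.prime
  have h := (PP.of_pow hs hf).ord
  rw [← hq] at h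
  have h6 : (q : ZMod s) ^ 6 = 1 := by rw [← h, pow_orderOf_eq_one]
  have h3 : (q : ZMod s) ^ 3 ≠ 1 := by
    intro h3
    have := orderOf_dvd_of_pow_eq_one h3
    rw [h] at this
    norm_num at this
  have h2 : (q : ZMod s) ^ 2 ≠ 1 := by
    intro h3
    have := orderOf_dvd_of_pow_eq_one h3
    rw [h] at this
    norm_num at this
  have h5 : (q : ZMod s) ^ 3 = -1 := by
    have h7 : (q : ZMod s) ^ 3 * (q : ZMod s) ^ 3 = 1 := by rw [← pow_add]; exact h6
    rcases mul_self_eq_one_iff.1 h7 with h8 | h8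
    · exact absurd h8 h3
    · exact h8
  have h8 := orderOf_eq_prime (x := -(q : ZMod s)) (p := 3) (by rw [(by decide : Odd 3).neg_pow, h5, neg_neg]) (by
    intro h9
    apply h2
    rw [← neg_sq, h9, one_pow])
  exact h8

/-- a transvection-like element: `x` of prime order `r`, `-q` of order 4 modulo `r`. -/
structure Prm4 {F : Type*} [Field F] [Fintype F] (q r : ℕ) (x : Module.End F (Fin 4 → F)) : Prop where
  card : Fintype.card F = q ^ 2
  prime : r.Prime
  ord : orderOf (-(q : ZMod r)) = 4
  isom : Isom (hermForm 4 F q) x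
  pow : x ^ r = 1
  ne : x ≠ 1

namespace Prm4

variable {F : Type*} [Field F] [Fintype F] {q r : ℕ} {x : Module.End F (Fin 4 → F)} {W : Submodule F (Fin 4 → F)}

theorem not_dvd (h : Prm4 q r x) : ¬ r ∣ q := GeoU.not_dvd_of_ord h.prime h.ord (by norm_num)

theorem ne_zero (h : Prm4 q r x) : (r : F) ≠ 0 := GeoU.natCast_ne h.card h.prime h.not_dvd

theorem fx_eq_bot (h : Prm4 q r x) : fx x = ⊥ := by
  have := Fact.mk h.prime
  have h1 := GeoU.fix_le h.card h.not_dvd h.isom h.pow h.ne
  rw [h.ord] at h1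
  exact Submodule.finrank_eq_zero.1 (by omega)

theorem ord_card (h : Prm4 q r x) : orderOf ((Fintype.card F : ℕ) : ZMod r) = 2 := by
  rw [h.card, GeoU.ord_sq_even h.ord (by decide)]

theorem even_finrank (h : Prm4 q r x) (hW : Inv x W) : Even (finrank F W) := by
  have := Fact.mk h.prime
  obtain ⟨b, hb⟩ := H950.exists_finrank_eq h.ne_zero h.pow hW
  rw [h.fx_eq_bot, inf_bot_eq, finrank_bot, zero_add, h.ord_card] at hb
  exact ⟨b, by omega⟩

theorem not_nd_two (h : Prm4 q r x) (hW : Inv x W) (h2 : finrank F W = 2) : ¬ Nd (hermForm 4 F q) W := by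
  intro hn
  have := Fact.mk h.prime
  have h1 := H950.ord_neg_dvd h.card h.not_dvd h.isom h.pow hW hn (by rw [h.fx_eq_bot, inf_bot_eq])
  rw [h.ord, h2] at h1
  norm_num at h1

theorem injective (h : Prm4 q r x) : Function.Injective x := by
  have h0 : 0 < r := h.prime.pos
  intro u v huv
  have h1 : (x ^ r) u = (x ^ r) v := by
    obtain ⟨k, rfl⟩ : ∃ k, r = k + 1 := ⟨r - 1, by omega⟩
    rw [pow_succ, Module.End.mul_apply, Module.End.mul_apply, huv]
  rwa [h.pow] at h1

/-- No element trivial on an invariant totally isotropic 2-space commutes with `x`. -/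
theorem no_comm (h : Prm4 q r x) (hW : Inv x W) (h2 : finrank F W = 2) (hT : TI (hermForm 4 F q) W)
    {g : Module.End F (Fin 4 → F)} (hg : Isom (hermForm 4 F q) g) (hgW : ∀ w ∈ W, g w = w) (hc : g * x = x * g) :
    g = 1 := by
  have := Fact.mk h.prime
  have hB := H950.frm_herm h.card 4
  have hnd := H950.nd_top h.card 4
  obtain ⟨n, rfl⟩ : ∃ n : Module.End F (Fin 4 → F), g = 1 + n := ⟨g - 1, by abel⟩
  have hn : n * x = x * n := by
    have h1 := hc
    rw [add_mul, mul_add, one_mul, mul_one] at h1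
    exact add_left_cancel h1
  have hnW : ∀ w ∈ W, n w = 0 := by
    intro w hw
    have := hgW w hw
    rw [LinearMap.add_apply, Module.End.one_apply] at this
    exact add_eq_left.1 this
  have hperp : hB.perp W = W := by
    symm
    apply Submodule.eq_of_le_of_finrank_eq (hB.ti_iff.1 hT)
    have h1 := hB.finrank_perp_inf' hnd (le_top : W ≤ ⊤)
    rw [inf_top_eq, finrank_top, finrank_fintype_fun_eq_card, Fintype.card_fin] at h1
    omega
  have hnv : ∀ v, n v ∈ W := by
    intro v
    rw [← hperp]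
    intro w hw
    have h1 := hg v w
    rw [LinearMap.add_apply, LinearMap.add_apply, Module.End.one_apply, Module.End.one_apply, hnW w hw, add_zero,
      hB.add_left] at h1
    exact add_eq_left.1 h1
  have hskew : ∀ u v, hermForm 4 F q u (n v) = - hermForm 4 F q (n u) v := by
    intro u v
    have h1 := hg u v
    rw [LinearMap.add_apply, LinearMap.add_apply, Module.End.one_apply, Module.End.one_apply, hB.add_left, hB.add_right,
      hB.add_right, hT _ (hnv u) _ (hnv v), add_zero] at h1
    linear_combination h1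
  obtain ⟨T, hTi, -, hWT, hWT'⟩ := exists_rel_compl (semisimple_of_pow h.ne_zero h.pow) hW inv_top le_top
  have hTd : finrank F T = 2 := by
    have h1 := finrank_sup_of_disj hWT
    rw [hWT', finrank_top, finrank_fintype_fun_eq_card, Fintype.card_fin] at h1
    omega
  have htop : ∀ v : Fin 4 → F, ∃ w ∈ W, ∃ t ∈ T, w + t = v := by
    intro v
    exact Submodule.mem_sup.1 (by rw [hWT']; exact Submodule.mem_top)
  by_contra hne
  have hxn : ∀ v, x (n v) = n (x v) := by
    intro v
    exact (LinearMap.congr_fun hn v).symm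
  -- `n` is injective on `T`
  have hK : LinearMap.ker n ⊓ T = ⊥ := by
    have hKi : Inv x (LinearMap.ker n ⊓ T) := by
      intro v hv
      refine ⟨?_, hTi v hv.2⟩
      rw [SetLike.mem_coe, LinearMap.mem_ker, ← hxn, LinearMap.mem_ker.1 hv.1, map_zero]
    have h1 := h.even_finrank hKi
    have h3 : finrank F ↥(LinearMap.ker n ⊓ T) ≤ 2 := by
      rw [← hTd]; exact Submodule.finrank_mono inf_le_right
    rcases Nat.lt_or_ge (finrank F ↥(LinearMap.ker n ⊓ T)) 1 with h4 | h4
    · exact Submodule.finrank_eq_zero.1 (by omega)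
    · exfalso
      have h5 : finrank F ↥(LinearMap.ker n ⊓ T) = 2 := by
        obtain ⟨k, hk⟩ := h1
        omega
      have h6 : LinearMap.ker n ⊓ T = T := Submodule.eq_of_le_of_finrank_eq inf_le_right (by rw [h5, hTd])
      apply hne
      have h7 : n = 0 := by
        apply LinearMap.ext
        intro v
        obtain ⟨w, hw, t, ht, rfl⟩ := htop v
        rw [← h6] at ht
        rw [map_add, hnW w hw, LinearMap.mem_ker.1 ht.1, add_zero, LinearMap.zero_apply]
      rw [h7, add_zero]
  have hinj : ∀ t ∈ T, n t = 0 → t = 0 := by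
    intro t ht h0
    have : t ∈ LinearMap.ker n ⊓ T := ⟨h0, ht⟩
    rwa [hK, Submodule.mem_bot] at this
  -- `T` is totally isotropic
  have hTT : TI (hermForm 4 F q) T := by
    have hI : Inv x (T ⊓ hB.perp T) := hTi.inf (h.isom.inv_perp hB h.injective hTi)
    have h1 := h.even_finrank hI
    have h3 : finrank F ↥(T ⊓ hB.perp T) ≤ 2 := by
      rw [← hTd]; exact Submodule.finrank_mono inf_le_left
    rcases Nat.lt_or_ge (finrank F ↥(T ⊓ hB.perp T)) 1 with h4 | h4
    · exact absurd (hB.nd_iff.2 (Submodule.finrank_eq_zero.1 (by omega))) (h.not_nd_two hTi hTd)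
    · have h5 : finrank F ↥(T ⊓ hB.perp T) = 2 := by
        obtain ⟨k, hk⟩ := h1
        omega
      have h6 : T ⊓ hB.perp T = T := Submodule.eq_of_le_of_finrank_eq inf_le_left (by rw [h5, hTd])
      rw [hB.ti_iff, ← h6]
      refine inf_le_right.trans ?_
      rw [h6]
  obtain ⟨c, hc⟩ := HermBasic.exists_not_fixed h.card
  -- the twisted copy of `T`
  let φ : Module.End F (Fin 4 → F) := 1 + c • n
  have hφ : ∀ v, φ v = v + c • n v := fun v => rfl
  have hφinj : ∀ t ∈ T, φ t = 0 → t = 0 := by
    intro t ht h0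
    rw [hφ] at h0
    have h1 : t ∈ W := by
      have h2 : t = - (c • n t) := eq_neg_of_add_eq_zero_left h0
      rw [h2]
      exact W.neg_mem (W.smul_mem _ (hnv t))
    have h3 : t ∈ W ⊓ T := ⟨h1, ht⟩
    rwa [hWT, Submodule.mem_bot] at h3
  refine h.not_nd_two (W := T.map φ) ?_ ?_ ?_
  · rintro _ ⟨t, ht, rfl⟩
    refine ⟨x t, hTi t ht, ?_⟩
    rw [hφ, hφ, map_add, map_smul, hxn]
  · have h1 : Function.Injective (φ.domRestrict T) := by
      rw [injective_iff_map_eq_zero]
      intro t ht
      exact Subtype.ext (hφinj t t.2 ht)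
    have h3 : LinearMap.range (φ.domRestrict T) = T.map φ := by
      rw [LinearMap.range_domRestrict]
    rw [← h3, LinearMap.finrank_range_of_inj h1, hTd]
  · rintro _ ⟨t, ht, rfl⟩ h0
    have ht0 : t ≠ 0 := by
      rintro rfl
      exact h0 (map_zero φ)
    have h1 : n t ≠ 0 := fun h3 => ht0 (hinj t ht h3)
    obtain ⟨y, -, hy⟩ := hnd (n t) Submodule.mem_top h1
    obtain ⟨w, hw, t', ht', rfl⟩ := htop y
    refine ⟨φ t', ⟨t', ht', rfl⟩, ?_⟩
    rw [hB.add_right, hT _ (hnv t) w hw, zero_add] at hy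
    have h4 : hermForm 4 F q (φ t) (φ t') = (c - c ^ q) * hermForm 4 F q (n t) t' := by
      rw [hφ, hφ, hB.add_left, hB.add_right, hB.add_right, hB.smul_left, hB.smul_left, hB.smul_right, hB.smul_right,
        hTT t ht t' ht', hT _ (hnv t) _ (hnv t'), hskew, H950.cj_apply]
      ring
    rw [h4]
    exact mul_ne_zero (fun h5 => hc (sub_eq_zero.1 h5).symm) hy

end Prm4

end Cfsg.Agent.H927.Om7
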