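import Cfsg.Agent.S0303
import Cfsg.Agent.S0279
import Cfsg.Agent.S0280
import Cfsg.Agent.S0288
import Cfsg.Agent.H918.UBase
import Cfsg.Agent.GenOrth.Normal
import Cfsg.Agent.H955.QSpace

/-!
# S3691, `Ω_7(q)`, box B6-: from `O_6^-(q)` to `SU_4(q)`

`exists_su` : for `Γ ≤ O_6^-(q)` there is `H ≤ SU_4(q)` with the same odd parts of the order, and `Ω_6^-(q) ≤ Γ` if
`H = SU_4(q)`.
-/

set_option autoImplicit false
set_option linter.unusedSectionVars false

namespace Cfsg.Agent.H927.Om7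

open Cfsg Cfsg.Geo Module QuadraticMap Cfsg.Agent.H918
open Cfsg.Agent.LieClassical.OrthCore Cfsg.Agent.LieClassical.OrthTrans
open Cfsg.Agent.LieClassical.OrthFinite (glEquiv glEquiv_apply mem_isometryGroup_iff good_of_finite)
open scoped Matrix MatrixGroups

/-- the same odd parts -/
def OddEq (m n : ℕ) : Prop := ∀ s : ℕ, s.Prime → s ≠ 2 → m.factorization s = n.factorization s

theorem OddEq.symm {m n : ℕ} (h : OddEq m n) : OddEq n m := fun s hs h2 => (h s hs h2).symm

theorem OddEq.trans {m n k : ℕ} (h : OddEq m n) (h' : OddEq n k) : OddEq m k :=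
  fun s hs h2 => (h s hs h2).trans (h' s hs h2)

theorem oddEq_mul {m k : ℕ} (hm : m ≠ 0) {c : ℕ} (hk : k ∣ 2 ^ c) : OddEq (k * m) m := by
  intro s hs h2
  have hk0 : k ≠ 0 := by
    rintro rfl
    exact (pow_ne_zero c two_ne_zero) (zero_dvd_iff.1 hk)
  rw [Nat.factorization_mul hk0 hm, Finsupp.add_apply, Nat.factorization_eq_zero_of_not_dvd, zero_add]
  intro h
  exact h2 ((Nat.prime_dvd_prime_iff_eq hs Nat.prime_two).1 (hs.dvd_of_dvd_pow (h.trans hk)))

section Abs

variable {G : Type*} [Group G] {B : Type*} [Group B] [Finite G] [Finite B] {N : Subgroup G} [N.Normal]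
  {Z : Subgroup N} [Z.Normal] {Y : Subgroup B} [Y.Normal]

theorem comm_eq {g k z w : G} (a1 : z * k = k * z) (a2 : z * w = w * z) (a3 : w * g⁻¹ = g⁻¹ * w) :
    g * z * (k * w) * (g * z)⁻¹ * (k * w)⁻¹ = g * k * g⁻¹ * k⁻¹ := by
  have e1 : g * z * (k * w) * (g * z)⁻¹ * (k * w)⁻¹ = g * (z * k) * w * z⁻¹ * g⁻¹ * w⁻¹ * k⁻¹ := by group
  have e2 : g * (k * z) * w * z⁻¹ * g⁻¹ * w⁻¹ * k⁻¹ = g * k * (z * w) * z⁻¹ * g⁻¹ * w⁻¹ * k⁻¹ := by group
  have e3 : g * k * (w * z) * z⁻¹ * g⁻¹ * w⁻¹ * k⁻¹ = g * k * (w * g⁻¹) * w⁻¹ * k⁻¹ := by group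
  rw [e1, a1, e2, a2, e3, a3]
  group

/-- the corresponding subgroup of `B` -/
def corr (e : (N ⧸ Z) ≃* (B ⧸ Y)) (Γ : Subgroup G) : Subgroup B :=
  (((Γ.subgroupOf N).map (QuotientGroup.mk' Z)).map e.toMonoidHom).comap (QuotientGroup.mk' Y)

theorem card_map' {G H : Type*} [Group G] [Finite G] [Group H] (φ : G →* H) (K : Subgroup G) :
    Nat.card K = Nat.card (φ.ker ⊓ K : Subgroup G) * Nat.card (K.map φ) := by
  have h1 : (φ.comp K.subtype).range = K.map φ := by
    rw [MonoidHom.range_comp, Subgroup.range_subtype]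
  have h2 : Nat.card (φ.comp K.subtype).ker = Nat.card (φ.ker ⊓ K : Subgroup G) := by
    rw [← Subgroup.card_map_of_injective K.subtype_injective]
    congr 1
    have : (φ.comp K.subtype).ker.map K.subtype = φ.ker ⊓ K := by
      ext g
      constructor
      · rintro ⟨x, hx, rfl⟩
        exact ⟨hx, x.2⟩
      · rintro ⟨h3, h4⟩
        exact ⟨⟨g, h4⟩, h3, rfl⟩
    rw [this]
  rw [← h2, ← h1, ← Subgroup.index_ker]
  exact (Subgroup.card_mul_index _).symm

theorem card_comap' {G H : Type*} [Group G] [Finite G] [Group H] (φ : G →* H) (hφ : Function.Surjective φ) (K : Subgroup H) :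
    Nat.card (K.comap φ) = Nat.card φ.ker * Nat.card K := by
  rw [card_map' φ (K.comap φ), Subgroup.map_comap_eq_self_of_surjective hφ,
    inf_eq_left.2 (Subgroup.ker_le_comap φ K)]

theorem oddEq_corr (e : (N ⧸ Z) ≃* (B ⧸ Y)) (Γ : Subgroup G) {c : ℕ} (hN : N.index ∣ 2 ^ c) (hZ : Nat.card Z ∣ 2 ^ c)
    (hY : Nat.card Y ∣ 2 ^ c) : OddEq (Nat.card (corr e Γ)) (Nat.card Γ) := by
  have h1 : Nat.card Γ = N.relIndex Γ * Nat.card (Γ.subgroupOf N) := by
    have h2 := Subgroup.relIndex_mul_relIndex (⊥ : Subgroup G) (Γ ⊓ N) Γ bot_le inf_le_left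
    rw [Subgroup.relIndex_bot_left, Subgroup.relIndex_bot_left, inf_comm, Subgroup.inf_relIndex_right] at h2
    have h3 : Nat.card (Γ.subgroupOf N) = Nat.card (N ⊓ Γ : Subgroup G) := by
      rw [← Subgroup.card_map_of_injective N.subtype_injective, Subgroup.subgroupOf_map_subtype, inf_comm]
    rw [h3, mul_comm, h2]
  have h2 : Nat.card (Γ.subgroupOf N) = Nat.card ((QuotientGroup.mk' Z).ker ⊓ Γ.subgroupOf N : Subgroup N) *
      Nat.card ((Γ.subgroupOf N).map (QuotientGroup.mk' Z)) := card_map' _ _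
  have h3 : Nat.card (corr e Γ) = Nat.card (QuotientGroup.mk' Y).ker *
      Nat.card (((Γ.subgroupOf N).map (QuotientGroup.mk' Z)).map e.toMonoidHom) :=
    card_comap' _ (QuotientGroup.mk'_surjective Y) _
  have h4 : Nat.card (((Γ.subgroupOf N).map (QuotientGroup.mk' Z)).map e.toMonoidHom) =
      Nat.card ((Γ.subgroupOf N).map (QuotientGroup.mk' Z)) := Subgroup.card_map_of_injective e.injective
  rw [h3, h4, QuotientGroup.ker_mk']
  refine (oddEq_mul (Nat.card_pos.ne') hY).trans (OddEq.symm ?_)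
  rw [h1]
  refine (oddEq_mul (Nat.card_pos.ne') (c := c) ((Subgroup.relIndex_dvd_index_of_normal N Γ).trans hN)).trans ?_
  rw [h2]
  refine oddEq_mul (Nat.card_pos.ne') (c := c) ?_
  refine (Subgroup.card_dvd_of_le inf_le_left).trans ?_
  rwa [QuotientGroup.ker_mk']

/-- the whole group -/
theorem commutator_le_of_corr (e : (N ⧸ Z) ≃* (B ⧸ Y)) (Γ : Subgroup G) (hZ : Z ≤ Subgroup.center N)
    (h : corr e Γ = ⊤) : ⁅N, N⁆ ≤ Γ := by
  have h1 : ((Γ.subgroupOf N).map (QuotientGroup.mk' Z)).map e.toMonoidHom = ⊤ := by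
    have h2 := Subgroup.map_comap_eq_self_of_surjective (QuotientGroup.mk'_surjective Y)
      (((Γ.subgroupOf N).map (QuotientGroup.mk' Z)).map e.toMonoidHom)
    rw [← h2]
    have h3 : Subgroup.comap (QuotientGroup.mk' Y) (((Γ.subgroupOf N).map (QuotientGroup.mk' Z)).map e.toMonoidHom) = ⊤ := h
    rw [h3, ← MonoidHom.range_eq_map, MonoidHom.range_eq_top]
    exact QuotientGroup.mk'_surjective Y
  have h2 : (Γ.subgroupOf N).map (QuotientGroup.mk' Z) = ⊤ := by
    rw [eq_top_iff]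
    intro x _
    have h3 : e x ∈ ((Γ.subgroupOf N).map (QuotientGroup.mk' Z)).map e.toMonoidHom := by
      rw [h1]; exact Subgroup.mem_top _
    obtain ⟨y, hy, hyx⟩ := h3
    rwa [← e.injective hyx]
  have h3 : ∀ x : N, ∃ g : N, (g : G) ∈ Γ ∧ ∃ z ∈ Z, x = g * z := by
    intro x
    have h4 : (QuotientGroup.mk' Z) x ∈ (Γ.subgroupOf N).map (QuotientGroup.mk' Z) := by
      rw [h2]; exact Subgroup.mem_top _
    obtain ⟨g, hg, hgx⟩ := h4
    exact ⟨g, hg, g⁻¹ * x, QuotientGroup.eq.1 hgx, by group⟩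
  rw [Subgroup.commutator_le]
  intro x hx y hy
  obtain ⟨g, hg, z, hz, hxg⟩ := h3 ⟨x, hx⟩
  obtain ⟨k, hk, w, hw, hyk⟩ := h3 ⟨y, hy⟩
  have hzc : ∀ t : N, z * t = t * z := fun t => ((Subgroup.mem_center_iff.1 (hZ hz)) t).symm
  have hwc : ∀ t : N, w * t = t * w := fun t => ((Subgroup.mem_center_iff.1 (hZ hw)) t).symm
  have hx' : x = (g : G) * z := congrArg (Subtype.val : N → G) hxg
  have hy' : y = (k : G) * w := congrArg (Subtype.val : N → G) hyk
  have c1 : (z : G) * k = k * z := congrArg (Subtype.val : N → G) (hzc k)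
  have c2 : (z : G) * w = w * z := congrArg (Subtype.val : N → G) (hzc w)
  have c3 : (w : G) * (g : G)⁻¹ = (g : G)⁻¹ * w := congrArg (Subtype.val : N → G) (hwc g⁻¹)
  rw [hx', hy', commutatorElement_def, comm_eq c1 c2 c3]
  exact Γ.mul_mem (Γ.mul_mem (Γ.mul_mem hg hk) (Γ.inv_mem hg)) (Γ.inv_mem hk)

end Abs

section Main

variable {F : Type} [Field F] [Fintype F]

/-- the numbers -/
theorem numbers {K : Type} [Field K] [Fintype K] {q : ℕ} (hF : Fintype.card F = q) (hK : Fintype.card K = q ^ 2) {a b : F}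
    (hab : ∀ z₁ z₂ : F, z₁ ^ 2 + a * z₁ * z₂ + b * z₂ ^ 2 = 0 → z₁ = 0 ∧ z₂ = 0)
    (e : POmega F (quadFormMinus 2 F a b) ≃* PSU 4 K q) :
    (Omega F (quadFormMinus 2 F a b)).index ∣ 2 ^ 3 ∧
      Nat.card (Subgroup.center (Omega F (quadFormMinus 2 F a b))) ∣ 2 ^ 3 := by
  have hfin : Finite (GL ((Fin 2 ⊕ Fin 2) ⊕ Fin 2) F) := inferInstance
  have h1 := S0288.result hF 3 (by norm_num) a b hab
  have h2 := S0280.result hK 4 (by norm_num)
  have h3 : Nat.card (isometryGroup F (quadFormMinus 2 F a b)) =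
      (Omega F (quadFormMinus 2 F a b)).index * Nat.card (Omega F (quadFormMinus 2 F a b)) := by
    rw [mul_comm]
    exact (Subgroup.card_mul_index _).symm
  have h4 : Nat.card (Omega F (quadFormMinus 2 F a b)) =
      Nat.card (Subgroup.center (Omega F (quadFormMinus 2 F a b))) * Nat.card (PSU 4 K q) := by
    rw [← Nat.card_congr e.toEquiv, mul_comm]
    exact Subgroup.card_eq_card_quotient_mul_card_subgroup _
  have hP : 0 < Nat.card (PSU 4 K q) := by
    have : Finite (PSU 4 K q) := Finite.of_equiv _ e.toEquiv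
    exact Nat.card_pos
  have h1' : Nat.card (isometryGroup F (quadFormMinus 2 F a b)) =
      2 * q ^ (3 * (3 - 1)) * (q ^ 3 + 1) * ∏ i ∈ Finset.range (3 - 1), (q ^ (2 * (i + 1)) - 1) := h1
  simp only [Finset.prod_range_succ, Finset.prod_range_zero] at h1' h2
  norm_num at h1' h2
  set I := (Omega F (quadFormMinus 2 F a b)).index with hI
  set Z := Nat.card (Subgroup.center (Omega F (quadFormMinus 2 F a b))) with hZ
  set P := Nat.card (PSU 4 K q) with hPd
  have h5 : I * Z = 2 * Nat.gcd 4 (q + 1) := by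
    have h6 : (q + 1) * P * (I * Z) = (q + 1) * P * (2 * Nat.gcd 4 (q + 1)) := by
      have h7 : I * (Z * P) = 2 * q ^ 6 * (q ^ 3 + 1) * ((q ^ 2 - 1) * (q ^ 4 - 1)) := by
        rw [← h4, ← h3, h1']
      calc (q + 1) * P * (I * Z) = (q + 1) * (I * (Z * P)) := by ring
        _ = 2 * (q ^ 6 * ((q + 1) * (q ^ 2 - 1) * (q ^ 3 + 1) * (q ^ 4 - 1))) := by rw [h7]; ring
        _ = 2 * (Nat.gcd 4 (q + 1) * ((q + 1) * P)) := by rw [h2]
        _ = (q + 1) * P * (2 * Nat.gcd 4 (q + 1)) := by ring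
    exact Nat.eq_of_mul_eq_mul_left (by positivity) h6
  have h6 : 2 * Nat.gcd 4 (q + 1) ∣ 2 ^ 3 := by
    have : Nat.gcd 4 (q + 1) ∣ 4 := Nat.gcd_dvd_left _ _
    exact Nat.mul_dvd_mul_left 2 this
  rw [← h5] at h6
  exact ⟨(Dvd.intro _ rfl).trans h6, (Dvd.intro_left _ rfl).trans h6⟩

theorem isPlus_of_sim {V : Type} [AddCommGroup V] [Module F V] [FiniteDimensional F V] {Q : QuadraticForm F V} {k : ℕ}
    (h : GenOrth.Sim Q (quadFormPlus k F)) : H955.IsPlus Q := by
  obtain ⟨c, hc, j, hj⟩ := h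
  let L : (Fin k → F) →ₗ[F] (Fin k ⊕ Fin k → F) :=
    { toFun := fun v => Sum.elim v 0
      map_add' := fun u v => by funext i; rcases i with i | i <;> simp
      map_smul' := fun c v => by funext i; rcases i with i | i <;> simp }
  have hL : Function.Injective L := by
    intro u v huv
    funext i
    exact congrFun huv (Sum.inl i)
  refine ⟨LinearMap.range ((j : (Fin k ⊕ Fin k → F) →ₗ[F] V).comp L), ?_, ?_⟩
  · rintro _ ⟨v, rfl⟩
    show Q (j (L v)) = 0
    rw [hj]
    have : quadFormPlus k F (L v) = 0 := by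
      unfold quadFormPlus
      exact Finset.sum_eq_zero fun i _ => mul_zero _
    rw [this, mul_zero]
  · have hinj : Function.Injective ((j : (Fin k ⊕ Fin k → F) →ₗ[F] V).comp L) := fun u v huv => hL (j.injective huv)
    rw [LinearMap.finrank_range_of_inj hinj, ← j.finrank_eq, finrank_fin_fun,
      finrank_fintype_fun_eq_card, Fintype.card_sum, Fintype.card_fin]
    ring

/-- **From `O_6^-(q)` to `SU_4(q)`.** -/
theorem exists_su {V : Type} [AddCommGroup V] [Module F V] [FiniteDimensional F V] {Q : QuadraticForm F V}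
    (hQ : Nondeg Q) (h6 : finrank F V = 6) (hpl : ¬ H955.IsPlus Q) {K : Type} [Field K] [Fintype K] {q : ℕ}
    (hF : Fintype.card F = q) (hK : Fintype.card K = q ^ 2) {Γ : Subgroup (V ≃ₗ[F] V)} (hΓ : Γ ≤ O Q) :
    ∃ H ≤ SUg 4 K q, OddEq (Nat.card H) (Nat.card Γ) ∧ (SUg 4 K q ≤ H → E Q ≤ Γ) := by
  obtain ⟨a, b, hab, c, hc, j, hj⟩ : ∃ a b : F, GenOrth.Aniso a b ∧ GenOrth.Sim Q (quadFormMinus 2 F a b) := by
    rcases GenOrth.normal_form 6 hQ h6 with ⟨k, hk, hs⟩ | ⟨k, hk, hs⟩ | ⟨k, hk, a, b, hab, hs⟩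
    · omega
    · exact absurd (isPlus_of_sim hs) hpl
    · obtain rfl : k = 2 := by omega
      exact ⟨a, b, hab, hs⟩
  obtain ⟨e⟩ := S0303.result hF hK a b hab
  obtain ⟨hI, hZ⟩ := numbers hF hK hab e
  let ψ : (V ≃ₗ[F] V) ≃* ((((Fin 2 ⊕ Fin 2) ⊕ Fin 2) → F) ≃ₗ[F] (((Fin 2 ⊕ Fin 2) ⊕ Fin 2) → F)) :=
    { toFun := fun g => (j.trans g).trans j.symm
      invFun := fun g => (j.symm.trans g).trans j
      left_inv := fun g => by ext1 v; simp
      right_inv := fun g => by
        apply LinearEquiv.ext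
        intro v
        simp
      map_mul' := fun g h => by
        apply LinearEquiv.ext
        intro v
        simp }
  have hψ : ∀ g v, ψ g v = j.symm (g (j v)) := fun g v => rfl
  let θ : (V ≃ₗ[F] V) ≃* GL ((Fin 2 ⊕ Fin 2) ⊕ Fin 2) F := ψ.trans (glEquiv _ F).symm
  have hθ : ∀ g v, ((θ g : GL ((Fin 2 ⊕ Fin 2) ⊕ Fin 2) F) : Matrix _ _ F).mulVec v = j.symm (g (j v)) := by
    intro g v
    rw [← glEquiv_apply]
    show glEquiv _ F ((glEquiv _ F).symm (ψ g)) v = _
    rw [MulEquiv.apply_symm_apply, hψ]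
  have hmem : ∀ g, θ g ∈ isometryGroup F (quadFormMinus 2 F a b) ↔ g ∈ O Q := by
    intro g
    rw [mem_isometryGroup_iff]
    constructor
    · intro h v
      have h1 := h (j.symm v)
      rw [hθ, LinearEquiv.apply_symm_apply] at h1
      have h2 := hj (j.symm (g v))
      have h3 := hj (j.symm v)
      rw [LinearEquiv.apply_symm_apply] at h2 h3
      rw [h2, h3, h1]
    · intro h v
      rw [hθ]
      have h2 := hj (j.symm (g (j v)))
      rw [LinearEquiv.apply_symm_apply, (h : ∀ v, Q (g v) = Q v), hj] at h2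
      exact (mul_left_cancel₀ hc h2).symm
  have hmap : (O Q).map θ.toMonoidHom = isometryGroup F (quadFormMinus 2 F a b) := by
    ext g
    rw [Subgroup.mem_map_equiv, ← hmem, MulEquiv.apply_symm_apply]
  have hle : Γ.map θ.toMonoidHom ≤ isometryGroup F (quadFormMinus 2 F a b) := by
    rw [← hmap]
    exact Subgroup.map_mono hΓ
  have hfin : Finite (GL ((Fin 2 ⊕ Fin 2) ⊕ Fin 2) F) := inferInstance
  have hfinK : Finite (GL (Fin 4) K) := inferInstance
  have hfinS : Finite (SU 4 K q) := Finite.of_injective _ (suHom_injective (n := 4) (F := K) (q := q))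
  set Γ' := (Γ.map θ.toMonoidHom).subgroupOf (isometryGroup F (quadFormMinus 2 F a b)) with hΓ'
  have hcard : Nat.card Γ' = Nat.card Γ := by
    rw [← Subgroup.card_map_of_injective (f := θ.toMonoidHom) θ.injective,
      ← Subgroup.card_map_of_injective (isometryGroup F (quadFormMinus 2 F a b)).subtype_injective,
      Subgroup.subgroupOf_map_subtype, inf_eq_left.2 hle]
  have hY : Nat.card (Subgroup.center (SU 4 K q)) ∣ 2 ^ 3 := by
    rw [S0279.result hK 4 (by norm_num)]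
    exact (Nat.gcd_dvd_left _ _).trans (by norm_num)
  refine ⟨(corr (N := Omega F (quadFormMinus 2 F a b)) e Γ').map (suHom 4 K q), ?_, ?_, ?_⟩
  · rintro _ ⟨A, -, rfl⟩
    exact suHom_mem A
  · rw [Subgroup.card_map_of_injective suHom_injective, ← hcard]
    exact oddEq_corr e Γ' hI hZ hY
  · intro h
    have htop : corr (N := Omega F (quadFormMinus 2 F a b)) e Γ' = ⊤ := by
      rw [eq_top_iff]
      intro A _
      obtain ⟨B, hB, hBA⟩ := h (suHom_mem A)
      rw [← suHom_injective hBA]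
      exact hB
    have h1 := commutator_le_of_corr e Γ' le_rfl htop
    have hG := good_of_finite hQ (by omega)
    have h2 : (E Q).map θ.toMonoidHom ≤ Γ.map θ.toMonoidHom := by
      have h3 : (⁅Omega F (quadFormMinus 2 F a b), Omega F (quadFormMinus 2 F a b)⁆).map
          (isometryGroup F (quadFormMinus 2 F a b)).subtype ≤ Γ.map θ.toMonoidHom := by
        refine (Subgroup.map_mono h1).trans ?_
        rw [hΓ', Subgroup.subgroupOf_map_subtype]
        exact inf_le_left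
      rw [Subgroup.map_commutator, Subgroup.map_subtype_commutator] at h3
      rw [← hG.E_perfect, ← hG.commutator_eq_E, Subgroup.map_commutator, Subgroup.map_commutator, hmap]
      exact h3
    intro g hg
    obtain ⟨k, hk, hkg⟩ := h2 (Subgroup.mem_map_of_mem _ hg)
    rwa [← θ.injective hkg]

end Main

end Cfsg.Agent.H927.Om7
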