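import Cfsg.Agent.H927.Om7.SUCore
import Cfsg.Agent.H927.Om7.Transf

/-!
# S3691, `Ω_7(q)`, box B6-, from the theorems on `SU_4(q)` (S5785) and `Sp_4(q)` (S5787, S5788)
-/

set_option autoImplicit false
set_option linter.unusedSectionVars false

namespace Cfsg.Agent.H927.Om7

open Cfsg Cfsg.Geo Module QuadraticMap Cfsg.Agent.H918 Cfsg.Agent.H884.El
open Cfsg.Agent.LieClassical.OrthCore
open scoped Matrix MatrixGroups

variable {F : Type} [Field F] [Fintype F] {V : Type} [AddCommGroup V] [Module F V] [FiniteDimensional F V]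
  {Q : QuadraticForm F V} {p f : ℕ} {Γ : Subgroup (V ≃ₗ[F] V)}

/-- box B6-, conditional form -/
theorem six_minus_of (hR : ∀ (K : Type) [Field K] [Fintype K] (q : ℕ), Fintype.card K = q ^ 2 → H900.SU4.Res K q)
    (hQ : Nondeg Q) (h6 : finrank F V = 6) (hpl : ¬ H955.IsPlus Q) (hp : p.Prime) (hp2 : p ≠ 2) (hf : 1 ≤ f)
    (hF : Nat.card F = p ^ f) (h31 : 31 ≤ p ^ f) (hΓ : Γ ≤ O Q) {r a : ℕ} (hSp : SpCore p f r a) (hr : PP p (f * 4) r)
    (hb : 9 < r ^ a) (hd : r ^ a ∣ Nat.card Γ) :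
    ((Nat.card Γ).factorization p ≤ 2 * f ∨ 4 * f ≤ (Nat.card Γ).factorization p) ∧
      ∀ s b, PP p (f * 6) s → 13 < s ^ b → s ^ b ∣ Nat.card Γ → E Q ≤ Γ := by
  have := Fact.mk hp
  have : Finite (GaloisField p (2 * f)) := by
    apply Nat.finite_of_card_ne_zero
    rw [GaloisField.card p (2 * f) (by omega)]
    exact pow_ne_zero _ hp.ne_zero
  let _ : Fintype (GaloisField p (2 * f)) := Fintype.ofFinite _
  have hK : Fintype.card (GaloisField p (2 * f)) = (p ^ f) ^ 2 := by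
    rw [← Nat.card_eq_fintype_card, GaloisField.card p (2 * f) (by omega), ← pow_mul, mul_comm]
  have hF' : Fintype.card F = p ^ f := by rw [← Nat.card_eq_fintype_card, hF]
  obtain ⟨H, hH, hodd, hE⟩ := exists_su hQ h6 hpl hF' hK hΓ
  have hfinG : Finite (GL (Fin 4) (GaloisField p (2 * f))) := inferInstance
  have hH0 : Nat.card H ≠ 0 := Nat.card_pos.ne'
  have hΓ0 : Nat.card Γ ≠ 0 := by
    have : Finite (V ≃ₗ[F] V) := H791.PQL.finite_equiv
    exact Nat.card_pos.ne'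
  have hr2 : r ≠ 2 := by
    have := hr.lt (by omega)
    omega
  have hdH : r ^ a ∣ Nat.card H := by
    rw [Nat.Prime.pow_dvd_iff_le_factorization hr.prime hH0, hodd r hr.prime hr2]
    exact (Nat.Prime.pow_dvd_iff_le_factorization hr.prime hΓ0).1 hd
  obtain ⟨h1, h2⟩ := su_core hK hp hp2 hf rfl h31 (hR _ _ hK) hSp hH hr hb hdH
  rw [hodd p hp hp2] at h1
  refine ⟨h1, fun s b hs hsb hsd => hE (h2 s hs ?_)⟩
  have hs2 : s ≠ 2 := by
    have := hs.lt (by omega)
    omega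
  have hb0 : b ≠ 0 := by rintro rfl; norm_num at hsb
  have h3 : s ^ b ∣ Nat.card H := by
    rw [Nat.Prime.pow_dvd_iff_le_factorization hs.prime hH0, hodd s hs.prime hs2]
    exact (Nat.Prime.pow_dvd_iff_le_factorization hs.prime hΓ0).1 hsd
  exact (dvd_pow_self s hb0).trans h3

end Cfsg.Agent.H927.Om7
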